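import Mathlib
import Cfsg.Prelude.Def_LinearParabolics

set_option autoImplicit false

/-! # S2425 (Steinberg character of `GL_n(q)` at `p'`-elements): shared definitions (helper3).

`h3_Constr`, `h3_comp`: the permutations that occur in `unipotentCharacterGL n F (fun _ => 1)` and their
compositions; `h3_chains`: weak chains of invariant subspaces with prescribed dimensions; `h3_cp`, `h3_phi`, `h3_m`:
the characteristic polynomial of a restriction and the closed formula for the Moebius function of the lattice of
invariant subspaces of a semisimple endomorphism. -/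

namespace Cfsg.Agent.StGL

open Polynomial

/-- The permutations that contribute to the Steinberg alternating sum: `κ i ≤ i + 1`. -/
def h3_Constr {j : ℕ} (κ : Equiv.Perm (Fin j)) : Prop := ∀ i : Fin j, (κ i).val ≤ 1 + i.val

instance h3_decConstr {j : ℕ} : DecidablePred (@h3_Constr j) := fun κ => by
  unfold h3_Constr; infer_instance

/-- The composition attached to `κ` (for `ν = (1,…,1)`): `i ↦ 1 + i - κ i`. -/
def h3_comp {j : ℕ} (κ : Equiv.Perm (Fin j)) : Fin j → ℕ := fun i => 1 + i.val - (κ i).val

/-- Partial sums `μ 0 + ⋯ + μ a` of a composition. -/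
def h3_ps {j : ℕ} (μ : Fin j → ℕ) (a : Fin j) : ℕ :=
  ∑ i ∈ Finset.univ.filter (fun i : Fin j => i ≤ a), μ i

/-- The composition of `j + 1` that is `c` on the first `t` positions, `0` on positions `t, …, j - 1` and
`j + 1 - t` at the last position `j`. -/
def h3_pad (j t : ℕ) (c : Fin t → ℕ) : Fin (j + 1) → ℕ :=
  fun i => if h : i.val < t then c ⟨i.val, h⟩ else if i.val < j then 0 else j + 1 - t

section lin

variable {F : Type*} [Field F] {V : Type*} [AddCommGroup V] [Module F V]

/-- Weak chains `c 0 ≤ c 1 ≤ ⋯` of `T`-invariant subspaces below `W` with `dim (c a) = μ 0 + ⋯ + μ a`. -/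
def h3_chains (T : Module.End F V) {j : ℕ} (μ : Fin j → ℕ) (W : Submodule F V) :
    Set (Fin j → Submodule F V) :=
  {c | Monotone c ∧ (∀ a, c a ≤ W) ∧ (∀ a, c a ∈ Module.End.invtSubmodule T) ∧
    ∀ a, Module.finrank F (c a) = h3_ps μ a}

/-- The invariant subspaces below `W`. -/
def h3_below (T : Module.End F V) (W : Submodule F V) : Set (Submodule F V) :=
  {W' | W' ∈ Module.End.invtSubmodule T ∧ W' ≤ W}

variable [Module.Finite F V]

/-- The characteristic polynomial of the restriction of `T` to the invariant subspace `W` (`1` if `W` is not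
invariant). -/
noncomputable def h3_cp (T : Module.End F V) (W : Submodule F V) : F[X] := by
  classical
  exact if h : W ∈ Module.End.invtSubmodule T then (LinearMap.restrict T h).charpoly else 1

end lin

section phi

variable {F : Type*} [Field F] [DecidableEq F]

/-- The closed formula: `∏_f (-1)^{m_f} q^{deg f · C(m_f, 2)}` over the monic irreducible factors `f` of `P`
(with multiplicities `m_f`). -/
noncomputable def h3_phi (q : ℕ) (P : F[X]) : ℤ :=
  ∏ f ∈ (UniqueFactorizationMonoid.normalizedFactors P).toFinset,
    (-1 : ℤ) ^ ((UniqueFactorizationMonoid.normalizedFactors P).count f) *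
      (q : ℤ) ^ (f.natDegree * ((UniqueFactorizationMonoid.normalizedFactors P).count f).choose 2)

variable {V : Type*} [AddCommGroup V] [Module F V] [Module.Finite F V]

/-- The value `h3_phi` of the characteristic polynomial of `T` on `W`. -/
noncomputable def h3_m (q : ℕ) (T : Module.End F V) (W : Submodule F V) : ℤ := h3_phi q (h3_cp T W)

end phi

/-- The endomorphism of the column space `Fin n → F` defined by a matrix group element. -/
noncomputable def h3_T {F : Type*} [Field F] {n : ℕ} (x : GL (Fin n) F) : Module.End F (Fin n → F) :=
  Matrix.toLin' (x : Matrix (Fin n) (Fin n) F)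

end Cfsg.Agent.StGL
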