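import Mathlib
import Cfsg.Agent.StGL.H3_Base
import Cfsg.Agent.Helper8.CompLabel

set_option autoImplicit false

/-!
S2425 Piece A (helper2): cosets of the standard parabolic `P_μ` of `GL_n(F)` ↔ weak chains of subspaces with
dimensions the partial sums of `μ`; fixed cosets of `x` ↔ `x`-invariant chains.
-/

namespace Cfsg.Agent.StGL

open Cfsg.Agent.Helper8.CompLab Matrix

variable {F : Type*} [Field F] {n : ℕ}

/-- vectors supported on the first `k` coordinates. -/
def h2_std (F : Type*) [Field F] (n k : ℕ) : Submodule F (Fin n → F) where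
  carrier := {v | ∀ i : Fin n, k ≤ i.val → v i = 0}
  add_mem' := by
    intro v w hv hw i hi
    rw [Pi.add_apply, hv i hi, hw i hi, add_zero]
  zero_mem' := by
    intro i _
    rfl
  smul_mem' := by
    intro c v hv i hi
    rw [Pi.smul_apply, hv i hi, smul_zero]

theorem h2_mem_std {k : ℕ} {v : Fin n → F} :
    v ∈ h2_std F n k ↔ ∀ i : Fin n, k ≤ i.val → v i = 0 := Iff.rfl

theorem h2_std_mono {k k' : ℕ} (h : k ≤ k') : h2_std F n k ≤ h2_std F n k' := by
  intro v hv i hi
  exact hv i (le_trans h hi)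

theorem h2_single_mem_std [DecidableEq (Fin n)] {k : ℕ} (j : Fin n) (hj : j.val < k) :
    (Pi.single j (1 : F) : Fin n → F) ∈ h2_std F n k := by
  intro i hi
  rw [Pi.single_apply, if_neg]
  intro h
  rw [h] at hi
  omega

/-- the linear equivalence `F^k ≃ h2_std F n k` for `k ≤ n`. -/
def h2_stdEquiv (F : Type*) [Field F] (n k : ℕ) (hk : k ≤ n) : (Fin k → F) ≃ₗ[F] h2_std F n k where
  toFun f := ⟨fun i => if h : i.val < k then f ⟨i.val, h⟩ else 0, by
    intro i hi
    show (if h : i.val < k then f ⟨i.val, h⟩ else 0) = 0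
    rw [dif_neg (by omega)]⟩
  map_add' := by
    intro f g
    apply Subtype.ext
    funext i
    show (if h : i.val < k then (f + g) ⟨i.val, h⟩ else 0)
      = (if h : i.val < k then f ⟨i.val, h⟩ else 0) + (if h : i.val < k then g ⟨i.val, h⟩ else 0)
    by_cases h : i.val < k
    · rw [dif_pos h, dif_pos h, dif_pos h, Pi.add_apply]
    · rw [dif_neg h, dif_neg h, dif_neg h, add_zero]
  map_smul' := by
    intro c f
    apply Subtype.ext
    funext i
    show (if h : i.val < k then (c • f) ⟨i.val, h⟩ else 0)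
      = c • (if h : i.val < k then f ⟨i.val, h⟩ else 0)
    by_cases h : i.val < k
    · rw [dif_pos h, dif_pos h, Pi.smul_apply]
    · rw [dif_neg h, dif_neg h, smul_zero]
  invFun v := fun j => v.1 ⟨j.val, lt_of_lt_of_le j.2 hk⟩
  left_inv := by
    intro f
    funext j
    show (if h : j.val < k then f ⟨j.val, h⟩ else 0) = f j
    rw [dif_pos j.2]
  right_inv := by
    intro v
    apply Subtype.ext
    funext i
    show (if h : i.val < k then v.1 ⟨i.val, _⟩ else 0) = v.1 i
    by_cases h : i.val < k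
    · rw [dif_pos h]
    · rw [dif_neg h]
      exact (v.2 i (by omega)).symm

theorem h2_finrank_std (k : ℕ) (hk : k ≤ n) : Module.finrank F (h2_std F n k) = k := by
  rw [← (h2_stdEquiv F n k hk).finrank_eq, Module.finrank_fin_fun]

/-- `label i ≤ a ↔ i < μ 0 + ⋯ + μ a`. -/
theorem h2_label_le_iff (μ : Fin n → ℕ) (hμ : ∑ i, μ i = n) (i : Fin n) (a : ℕ) :
    Cfsg.compLabel μ i ≤ a ↔ i.val < psum μ (a + 1) := by
  obtain ⟨h1, h2⟩ := compLabel_spec μ hμ i
  constructor
  · intro h
    have := psum_mono μ (show Cfsg.compLabel μ i + 1 ≤ a + 1 by omega)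
    omega
  · intro h
    by_contra hh
    push Not at hh
    have := psum_mono μ (show a + 1 ≤ Cfsg.compLabel μ i by omega)
    omega

theorem h2_ps_eq (μ : Fin n → ℕ) (a : Fin n) : h3_ps μ a = psum μ (a.val + 1) :=
  sum_le_eq μ a

/-- the linear automorphism of a matrix group element. -/
noncomputable def h2_lin (g : GL (Fin n) F) : (Fin n → F) ≃ₗ[F] (Fin n → F) :=
  LinearEquiv.ofLinearMap (Matrix.toLin' (g : Matrix (Fin n) (Fin n) F))
    (Matrix.toLin' ((g⁻¹ : GL (Fin n) F) : Matrix (Fin n) (Fin n) F))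
    (by rw [← Matrix.toLin'_mul, ← Units.val_mul, mul_inv_cancel, Units.val_one, Matrix.toLin'_one])
    (by rw [← Matrix.toLin'_mul, ← Units.val_mul, inv_mul_cancel, Units.val_one, Matrix.toLin'_one])

theorem h2_lin_apply (g : GL (Fin n) F) (v : Fin n → F) :
    h2_lin g v = (g : Matrix (Fin n) (Fin n) F) *ᵥ v := rfl

theorem h2_lin_mul (g h : GL (Fin n) F) (v : Fin n → F) : h2_lin (g * h) v = h2_lin g (h2_lin h v) := by
  rw [h2_lin_apply, h2_lin_apply, h2_lin_apply, Units.val_mul, Matrix.mulVec_mulVec]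

/-- the flag of `g`: the images of the standard subspaces. -/
noncomputable def h2_flag (μ : Fin n → ℕ) (g : GL (Fin n) F) (a : Fin n) : Submodule F (Fin n → F) :=
  (h2_std F n (psum μ (a.val + 1))).map (h2_lin g).toLinearMap

theorem h2_finrank_flag (μ : Fin n → ℕ) (hμ : ∑ i, μ i = n) (g : GL (Fin n) F) (a : Fin n) :
    Module.finrank F (h2_flag μ g a) = psum μ (a.val + 1) := by
  unfold h2_flag
  rw [LinearEquiv.finrank_map_eq, h2_finrank_std _ (psum_le μ hμ _)]

/-- membership in the parabolic: the standard flag is preserved. -/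
theorem h2_mem_parabolic_iff (μ : Fin n → ℕ) (hμ : ∑ i, μ i = n) (g : GL (Fin n) F) :
    g ∈ Cfsg.parabolicGL n F μ ↔ ∀ a : Fin n, h2_flag μ g a ≤ h2_std F n (psum μ (a.val + 1)) := by
  constructor
  · intro hg a w hw
    obtain ⟨v, hv, rfl⟩ := hw
    intro i hi
    show ((g : Matrix (Fin n) (Fin n) F) *ᵥ v) i = 0
    rw [Matrix.mulVec, dotProduct]
    apply Finset.sum_eq_zero
    intro j _
    by_cases hj : psum μ (a.val + 1) ≤ j.val
    · rw [hv j hj, mul_zero]
    · push Not at hj
      have h1 : Cfsg.compLabel μ j ≤ a.val := (h2_label_le_iff μ hμ j a.val).mpr hj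
      have h2 : ¬ Cfsg.compLabel μ i ≤ a.val := by
        rw [h2_label_le_iff μ hμ i a.val]
        omega
      have h3 : Cfsg.compLabel μ j < Cfsg.compLabel μ i := by omega
      have : (g : Matrix (Fin n) (Fin n) F) i j = 0 := hg h3
      rw [this, zero_mul]
  · intro h i j hij
    classical
    have hlt : Cfsg.compLabel μ j < n := compLabel_lt μ hμ j
    let a : Fin n := ⟨Cfsg.compLabel μ j, hlt⟩
    have hj : j.val < psum μ (a.val + 1) := (h2_label_le_iff μ hμ j a.val).mp (le_refl _)
    have hmem : h2_lin g (Pi.single j 1) ∈ h2_flag μ g a :=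
      Submodule.mem_map_of_mem (h2_single_mem_std j hj)
    have h1 := h a hmem i (by
      by_contra hh
      push Not at hh
      have := (h2_label_le_iff μ hμ i a.val).mpr hh
      have ha : a.val = Cfsg.compLabel μ j := rfl
      omega)
    rw [h2_lin_apply, Matrix.mulVec_single_one] at h1
    exact h1

theorem h2_flag_eq_std_of_mem (μ : Fin n → ℕ) (hμ : ∑ i, μ i = n) (g : GL (Fin n) F)
    (hg : g ∈ Cfsg.parabolicGL n F μ) (a : Fin n) :
    h2_flag μ g a = h2_std F n (psum μ (a.val + 1)) := by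
  apply Submodule.eq_of_le_of_finrank_eq ((h2_mem_parabolic_iff μ hμ g).mp hg a)
  rw [h2_finrank_flag μ hμ, h2_finrank_std _ (psum_le μ hμ _)]

theorem h2_flag_mul (μ : Fin n → ℕ) (g h : GL (Fin n) F) (a : Fin n) :
    h2_flag μ (g * h) a = (h2_flag μ h a).map (h2_lin g).toLinearMap := by
  unfold h2_flag
  rw [← Submodule.map_comp]
  congr 1
  apply LinearMap.ext
  intro v
  exact h2_lin_mul g h v

/-- two elements have the same flag iff they lie in the same coset of the parabolic. -/
theorem h2_flag_eq_iff (μ : Fin n → ℕ) (hμ : ∑ i, μ i = n) (g h : GL (Fin n) F) :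
    h2_flag μ g = h2_flag μ h ↔ g⁻¹ * h ∈ Cfsg.parabolicGL n F μ := by
  constructor
  · intro hgh
    rw [h2_mem_parabolic_iff μ hμ]
    intro a
    rw [h2_flag_mul, ← congrFun hgh a, ← h2_flag_mul, inv_mul_cancel]
    unfold h2_flag
    intro w hw
    obtain ⟨v, hv, rfl⟩ := hw
    have : (h2_lin (1 : GL (Fin n) F)).toLinearMap v = v := by
      show h2_lin 1 v = v
      rw [h2_lin_apply, Units.val_one, Matrix.one_mulVec]
    rw [this]
    exact hv
  · intro hmem
    funext a
    have h1 : h = g * (g⁻¹ * h) := by rw [mul_inv_cancel_left]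
    rw [h1, h2_flag_mul, h2_flag_eq_std_of_mem μ hμ _ hmem]
    rfl

/-- an adapted family: `b i ∈ c (label i)`, linearly independent, built step by step. -/
theorem h2_exists_adapted (μ : Fin n → ℕ) (hμ : ∑ i, μ i = n)
    (c : Fin n → Submodule F (Fin n → F))
    (hdim : ∀ a : Fin n, Module.finrank F (c a) = psum μ (a.val + 1)) :
    ∀ k (hk : k ≤ n), ∃ b : Fin k → (Fin n → F), LinearIndependent F b ∧
      ∀ i : Fin k, b i ∈ c ⟨Cfsg.compLabel μ (Fin.castLE hk i), compLabel_lt μ hμ _⟩ := by
  intro k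
  induction k with
  | zero =>
    intro _
    exact ⟨Fin.elim0, linearIndependent_empty_type, fun i => i.elim0⟩
  | succ k ih =>
    intro hk
    obtain ⟨b, hb, hbc⟩ := ih (by omega)
    let i₀ : Fin n := ⟨k, by omega⟩
    let a₀ : Fin n := ⟨Cfsg.compLabel μ i₀, compLabel_lt μ hμ _⟩
    have hspan : Module.finrank F (Submodule.span F (Set.range b)) = k := by
      rw [finrank_span_eq_card hb, Fintype.card_fin]
    have hgt : k < Module.finrank F (c a₀) := by
      rw [hdim a₀]
      exact (compLabel_spec μ hμ i₀).2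
    have hnle : ¬ c a₀ ≤ Submodule.span F (Set.range b) := by
      intro hle
      have := Submodule.finrank_mono hle
      omega
    obtain ⟨v, hv, hvn⟩ := SetLike.not_le_iff_exists.mp hnle
    refine ⟨Fin.snoc b v, LinearIndependent.finSnoc hb hvn, ?_⟩
    intro i
    refine Fin.lastCases ?_ ?_ i
    · rw [Fin.snoc_last]
      have : Fin.castLE hk (Fin.last k) = i₀ := Fin.ext rfl
      rw [this]
      exact hv
    · intro j
      rw [Fin.snoc_castSucc]
      have : Fin.castLE hk (Fin.castSucc j) = Fin.castLE (by omega : k ≤ n) j := Fin.ext rfl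
      rw [this]
      exact hbc j

/-- **transitivity of `GL_n` on flags of type `μ`**. -/
theorem h2_exists_flag_eq (μ : Fin n → ℕ) (hμ : ∑ i, μ i = n)
    (c : Fin n → Submodule F (Fin n → F)) (hmono : Monotone c)
    (hdim : ∀ a : Fin n, Module.finrank F (c a) = psum μ (a.val + 1)) :
    ∃ g : GL (Fin n) F, h2_flag μ g = c := by
  classical
  obtain ⟨b, hb, hbc⟩ := h2_exists_adapted μ hμ c hdim n (le_refl n)
  let M : Matrix (Fin n) (Fin n) F := Matrix.of fun r i => b i r
  have hcol : M.col = b := by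
    funext i r
    rfl
  have hunit : IsUnit M := by
    rw [← Matrix.linearIndependent_cols_iff_isUnit, hcol]
    exact hb
  have hdet : IsUnit M.det := (Matrix.isUnit_iff_isUnit_det M).mp hunit
  let g : GL (Fin n) F := Matrix.GeneralLinearGroup.mk'' M hdet
  have hg : (g : Matrix (Fin n) (Fin n) F) = M := rfl
  refine ⟨g, ?_⟩
  funext a
  apply Submodule.eq_of_le_of_finrank_eq
  · intro w hw
    obtain ⟨v, hv, rfl⟩ := hw
    show h2_lin g v ∈ c a
    rw [h2_lin_apply, hg, Matrix.mulVec_eq_sum]
    apply Submodule.sum_mem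
    intro i _
    by_cases hi : psum μ (a.val + 1) ≤ i.val
    · rw [hv i hi]
      have : MulOpposite.op (0 : F) • Mᵀ i = 0 := by
        rw [MulOpposite.op_zero, zero_smul]
      rw [this]
      exact Submodule.zero_mem _
    · push Not at hi
      have hle : Cfsg.compLabel μ i ≤ a.val := (h2_label_le_iff μ hμ i a.val).mpr hi
      have hmem : b i ∈ c a := by
        have h1 := hbc i
        have h2 : Fin.castLE (le_refl n) i = i := Fin.ext rfl
        rw [h2] at h1
        exact hmono (show (⟨Cfsg.compLabel μ i, compLabel_lt μ hμ _⟩ : Fin n) ≤ a from hle) h1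
      have hrow : Mᵀ i = b i := by
        funext r
        rfl
      rw [hrow, op_smul_eq_smul]
      exact Submodule.smul_mem _ _ hmem
  · rw [h2_finrank_flag μ hμ, hdim]

/-- the flag of a coset. -/
noncomputable def h2_Theta (μ : Fin n → ℕ) (hμ : ∑ i, μ i = n) :
    (GL (Fin n) F ⧸ Cfsg.parabolicGL n F μ) → (Fin n → Submodule F (Fin n → F)) :=
  Quotient.lift (s := QuotientGroup.leftRel (Cfsg.parabolicGL n F μ)) (fun g => h2_flag μ g) (by
    intro g h hgh
    exact (h2_flag_eq_iff μ hμ g h).mpr (QuotientGroup.leftRel_apply.mp hgh))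

theorem h2_Theta_mk (μ : Fin n → ℕ) (hμ : ∑ i, μ i = n) (g : GL (Fin n) F) :
    h2_Theta μ hμ (g : GL (Fin n) F ⧸ Cfsg.parabolicGL n F μ) = h2_flag μ g := rfl

theorem h2_Theta_injective (μ : Fin n → ℕ) (hμ : ∑ i, μ i = n) :
    Function.Injective (h2_Theta (F := F) μ hμ) := by
  intro q q'
  refine Quotient.inductionOn₂' q q' ?_
  intro g h hgh
  exact QuotientGroup.eq.mpr ((h2_flag_eq_iff μ hμ g h).mp hgh)

theorem h2_Theta_smul (μ : Fin n → ℕ) (hμ : ∑ i, μ i = n) (x : GL (Fin n) F)
    (q : GL (Fin n) F ⧸ Cfsg.parabolicGL n F μ) (a : Fin n) :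
    h2_Theta μ hμ (x • q) a = (h2_Theta μ hμ q a).map (h2_lin x).toLinearMap := by
  refine Quotient.inductionOn' q ?_
  intro g
  exact h2_flag_mul μ x g a

theorem h2_lin_toLinearMap (x : GL (Fin n) F) : (h2_lin x).toLinearMap = h3_T x := rfl

/-- **Piece A**: the permutation character on the cosets of `P_μ` counts the invariant chains. -/
theorem hA_fpc_eq_card_chains {F : Type*} [Field F] [Fintype F] {n : ℕ} (μ : Fin n → ℕ)
    (hμ : ∑ i, μ i = n) (x : GL (Fin n) F) :
    Cfsg.fixedPointCharacter (Cfsg.parabolicGL n F μ) x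
      = ((Nat.card (h3_chains (h3_T x) μ ⊤) : ℕ) : ℂ) := by
  unfold Cfsg.fixedPointCharacter
  congr 1
  have hbij : Set.BijOn (h2_Theta (F := F) μ hμ)
      (MulAction.fixedBy (GL (Fin n) F ⧸ Cfsg.parabolicGL n F μ) x) (h3_chains (h3_T x) μ ⊤) := by
    refine ⟨?_, (h2_Theta_injective μ hμ).injOn, ?_⟩
    · intro q hq
      rw [MulAction.mem_fixedBy] at hq
      refine ⟨?_, fun _ => le_top, ?_, ?_⟩
      · intro a a' haa'
        refine Quotient.inductionOn' q ?_
        intro g
        show h2_flag μ g a ≤ h2_flag μ g a'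
        exact Submodule.map_mono (h2_std_mono (psum_mono μ (by
          have : a.val ≤ a'.val := haa'
          omega)))
      · intro a
        rw [Module.End.mem_invtSubmodule_iff_map_le, ← h2_lin_toLinearMap, ← h2_Theta_smul, hq]
      · intro a
        refine Quotient.inductionOn' q ?_
        intro g
        show Module.finrank F (h2_flag μ g a) = h3_ps μ a
        rw [h2_finrank_flag μ hμ, h2_ps_eq]
    · intro c hc
      obtain ⟨hmono, _, hinv, hdim⟩ := hc
      obtain ⟨g, hg⟩ := h2_exists_flag_eq μ hμ c hmono (fun a => by rw [hdim a, h2_ps_eq])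
      refine ⟨(g : GL (Fin n) F ⧸ Cfsg.parabolicGL n F μ), ?_, ?_⟩
      · rw [MulAction.mem_fixedBy]
        apply h2_Theta_injective μ hμ
        funext a
        rw [h2_Theta_smul, h2_Theta_mk, hg]
        apply Submodule.eq_of_le_of_finrank_eq
        · rw [h2_lin_toLinearMap]
          exact (Module.End.mem_invtSubmodule_iff_map_le _).mp (hinv a)
        · rw [LinearEquiv.finrank_map_eq]
      · rw [h2_Theta_mk, hg]
  exact Nat.card_congr hbij.equiv

end Cfsg.Agent.StGL
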