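import Mathlib
import Cfsg.Agent.StGL.H3_Base

set_option autoImplicit false
set_option linter.unusedSectionVars false

/-! # S2425: invariant subspaces, characteristic polynomials of restrictions (helper3). -/

namespace Cfsg.Agent.StGL

open Polynomial Module

variable {F : Type*} [Field F] {V : Type*} [AddCommGroup V] [Module F V] [Module.Finite F V]
variable (T : Module.End F V)

/-- the restriction of `T` to an invariant subspace -/
def h3_res {W : Submodule F V} (hW : W ∈ T.invtSubmodule) : Module.End F W :=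
  LinearMap.restrict T (fun _ hx => hW hx)

theorem h3_res_apply {W : Submodule F V} (hW : W ∈ T.invtSubmodule) (v : W) :
    ((h3_res T hW v : W) : V) = T (v : V) := rfl

theorem h3_cp_of_mem {W : Submodule F V} (hW : W ∈ T.invtSubmodule) :
    h3_cp T W = (h3_res T hW).charpoly := by
  unfold h3_cp h3_res
  rw [dif_pos hW]

theorem h3_cp_monic (W : Submodule F V) : (h3_cp T W).Monic := by
  unfold h3_cp
  split_ifs
  · exact LinearMap.charpoly_monic _
  · exact monic_one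

theorem h3_cp_ne_zero (W : Submodule F V) : h3_cp T W ≠ 0 := (h3_cp_monic T W).ne_zero

theorem h3_cp_natDegree {W : Submodule F V} (hW : W ∈ T.invtSubmodule) :
    (h3_cp T W).natDegree = Module.finrank F W := by
  rw [h3_cp_of_mem T hW, LinearMap.charpoly_natDegree]

theorem h3_bot_mem : (⊥ : Submodule F V) ∈ T.invtSubmodule := Module.End.invtSubmodule.bot_mem T

theorem h3_cp_bot : h3_cp T ⊥ = 1 := by
  have h1 := h3_cp_monic T ⊥
  have h2 := h3_cp_natDegree T (h3_bot_mem T)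
  rw [finrank_bot] at h2
  exact h1.natDegree_eq_zero.mp h2

theorem h3_sup_mem {W₁ W₂ : Submodule F V} (h₁ : W₁ ∈ T.invtSubmodule) (h₂ : W₂ ∈ T.invtSubmodule) :
    W₁ ⊔ W₂ ∈ T.invtSubmodule := Module.End.invtSubmodule.sup_mem h₁ h₂

theorem h3_inf_mem {W₁ W₂ : Submodule F V} (h₁ : W₁ ∈ T.invtSubmodule) (h₂ : W₂ ∈ T.invtSubmodule) :
    W₁ ⊓ W₂ ∈ T.invtSubmodule := Module.End.invtSubmodule.inf_mem h₁ h₂

theorem h3_map_mem {W : Submodule F V} (hW : W ∈ T.invtSubmodule) {v : V} (hv : v ∈ W) : T v ∈ W :=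
  hW hv

/-- the characteristic polynomial is multiplicative on internal direct sums of invariant subspaces -/
theorem h3_cp_sup {W₁ W₂ : Submodule F V} (h₁ : W₁ ∈ T.invtSubmodule) (h₂ : W₂ ∈ T.invtSubmodule)
    (hd : Disjoint W₁ W₂) : h3_cp T (W₁ ⊔ W₂) = h3_cp T W₁ * h3_cp T W₂ := by
  have h₁₂ : W₁ ⊔ W₂ ∈ T.invtSubmodule := h3_sup_mem T h₁ h₂
  rw [h3_cp_of_mem T h₁₂, h3_cp_of_mem T h₁, h3_cp_of_mem T h₂, ← LinearMap.charpoly_prodMap]
  let i₁ : W₁ →ₗ[F] ↥(W₁ ⊔ W₂) := Submodule.inclusion le_sup_left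
  let i₂ : W₂ →ₗ[F] ↥(W₁ ⊔ W₂) := Submodule.inclusion le_sup_right
  let c : (W₁ × W₂) →ₗ[F] ↥(W₁ ⊔ W₂) := i₁.coprod i₂
  have hc : ∀ a : W₁, ∀ b : W₂, ((c (a, b) : ↥(W₁ ⊔ W₂)) : V) = (a : V) + (b : V) := by
    intro a b
    simp [c, i₁, i₂]
  have hinj : Function.Injective c := by
    rw [injective_iff_map_eq_zero]
    rintro ⟨a, b⟩ hab
    have h0 : (a : V) + (b : V) = 0 := by
      rw [← hc a b, hab]; rfl
    have ha : (a : V) ∈ W₁ ⊓ W₂ := by
      refine ⟨a.2, ?_⟩
      have : (a : V) = -(b : V) := eq_neg_of_add_eq_zero_left h0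
      rw [this]
      exact W₂.neg_mem b.2
    rw [hd.eq_bot, Submodule.mem_bot] at ha
    have hb : (b : V) = 0 := by
      rw [ha, zero_add] at h0; exact h0
    ext
    · exact ha
    · exact hb
  have hsurj : Function.Surjective c := by
    rintro ⟨w, hw⟩
    obtain ⟨a, ha, b, hb, rfl⟩ := Submodule.mem_sup.mp hw
    refine ⟨(⟨a, ha⟩, ⟨b, hb⟩), ?_⟩
    apply Subtype.ext
    rw [hc]
  let e : (W₁ × W₂) ≃ₗ[F] ↥(W₁ ⊔ W₂) := LinearEquiv.ofBijective c ⟨hinj, hsurj⟩
  have hconj : e.conj ((h3_res T h₁).prodMap (h3_res T h₂)) = h3_res T h₁₂ := by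
    apply LinearMap.ext
    intro w
    obtain ⟨⟨a, b⟩, rfl⟩ := e.surjective w
    rw [LinearEquiv.conj_apply_apply, LinearEquiv.symm_apply_apply]
    apply Subtype.ext
    have he : ∀ p : W₁ × W₂, e p = c p := fun p => rfl
    rw [he, he, LinearMap.prodMap_apply, hc]
    change T (a : V) + T (b : V) = T ((c (a, b) : ↥(W₁ ⊔ W₂)) : V)
    rw [hc, map_add]
  rw [← hconj, LinearEquiv.charpoly_conj]

/-- invariant subspaces are stable under polynomials in `T` -/
theorem h3_aeval_mem {W : Submodule F V} (hW : W ∈ T.invtSubmodule) (g : F[X]) {v : V} (hv : v ∈ W) :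
    aeval T g v ∈ W := by
  induction g using Polynomial.induction_on generalizing v with
  | C a =>
    rw [aeval_C]
    exact W.smul_mem a hv
  | add p q hp hq =>
    rw [map_add]
    exact W.add_mem (hp hv) (hq hv)
  | monomial n a ih =>
    rw [pow_succ, ← mul_assoc, map_mul, aeval_X, Module.End.mul_apply]
    exact ih (h3_map_mem T hW hv)

theorem h3_aeval_restrict {W : Submodule F V} (hW : W ∈ T.invtSubmodule) (g : F[X]) (v : W) :
    ((aeval (h3_res T hW) g v : W) : V) = aeval T g (v : V) := by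
  induction g using Polynomial.induction_on generalizing v with
  | C a =>
    rw [aeval_C, aeval_C]
    rfl
  | add p q hp hq =>
    rw [map_add, map_add, LinearMap.add_apply, LinearMap.add_apply, Submodule.coe_add, hp, hq]
  | monomial n a ih =>
    rw [pow_succ, ← mul_assoc, map_mul (aeval (h3_res T hW)) (C a * X ^ n) X, map_mul (aeval T) (C a * X ^ n) X,
      aeval_X, aeval_X, Module.End.mul_apply, Module.End.mul_apply, ih]
    rfl

theorem h3_aeval_comm (g : F[X]) (v : V) : aeval T g (T v) = T (aeval T g v) := by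
  have h : Commute T (aeval T g) := by
    have := (Polynomial.commute_X g).map (aeval T)
    rwa [aeval_X] at this
  have := congrArg (fun L : Module.End F V => L v) h.eq
  simp only [Module.End.mul_apply] at this
  exact this.symm

/-- kernels of polynomials in `T` are invariant -/
theorem h3_ker_mem (g : F[X]) : LinearMap.ker (aeval T g) ∈ T.invtSubmodule := by
  intro v hv
  rw [Submodule.mem_comap, LinearMap.mem_ker, h3_aeval_comm]
  rw [LinearMap.mem_ker] at hv
  rw [hv, map_zero]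

theorem h3_ker_inf_sup (g : F[X]) {W₁ W₂ : Submodule F V} (h₁ : W₁ ∈ T.invtSubmodule)
    (h₂ : W₂ ∈ T.invtSubmodule) (hd : Disjoint W₁ W₂) :
    LinearMap.ker (aeval T g) ⊓ (W₁ ⊔ W₂) =
      (LinearMap.ker (aeval T g) ⊓ W₁) ⊔ (LinearMap.ker (aeval T g) ⊓ W₂) := by
  apply le_antisymm
  · rintro v ⟨hvk, hvs⟩
    obtain ⟨a, ha, b, hb, rfl⟩ := Submodule.mem_sup.mp hvs
    have hk : aeval T g a + aeval T g b = 0 := by
      have := LinearMap.mem_ker.mp hvk
      rwa [map_add] at this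
    have ha' : aeval T g a ∈ W₁ ⊓ W₂ := by
      refine ⟨h3_aeval_mem T h₁ g ha, ?_⟩
      have : aeval T g a = -(aeval T g b) := eq_neg_of_add_eq_zero_left hk
      rw [this]
      exact W₂.neg_mem (h3_aeval_mem T h₂ g hb)
    rw [hd.eq_bot, Submodule.mem_bot] at ha'
    have hb' : aeval T g b = 0 := by
      rw [ha', zero_add] at hk; exact hk
    exact Submodule.add_mem_sup ⟨LinearMap.mem_ker.mpr ha', ha⟩ ⟨LinearMap.mem_ker.mpr hb', hb⟩
  · exact sup_le (inf_le_inf_left _ le_sup_left) (inf_le_inf_left _ le_sup_right)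

theorem h3_finrank_sup {W₁ W₂ : Submodule F V} (hd : Disjoint W₁ W₂) :
    Module.finrank F ↥(W₁ ⊔ W₂) = Module.finrank F W₁ + Module.finrank F W₂ := by
  have := Submodule.finrank_sup_add_finrank_inf_eq W₁ W₂
  rw [hd.eq_bot, finrank_bot, add_zero] at this
  exact this

theorem h3_finrank_ker_inf_sup (g : F[X]) {W₁ W₂ : Submodule F V} (h₁ : W₁ ∈ T.invtSubmodule)
    (h₂ : W₂ ∈ T.invtSubmodule) (hd : Disjoint W₁ W₂) :
    Module.finrank F ↥(LinearMap.ker (aeval T g) ⊓ (W₁ ⊔ W₂)) =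
      Module.finrank F ↥(LinearMap.ker (aeval T g) ⊓ W₁) + Module.finrank F ↥(LinearMap.ker (aeval T g) ⊓ W₂) := by
  rw [h3_ker_inf_sup T g h₁ h₂ hd]
  apply h3_finrank_sup
  exact hd.mono inf_le_right inf_le_right

/-- atoms of the lattice of invariant subspaces -/
def h3_IsAtom (S : Submodule F V) : Prop :=
  S ∈ T.invtSubmodule ∧ S ≠ ⊥ ∧ ∀ U ∈ T.invtSubmodule, U ≤ S → U = ⊥ ∨ U = S

theorem h3_exists_atom {W : Submodule F V} (hW : W ∈ T.invtSubmodule) (hne : W ≠ ⊥) :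
    ∃ S, h3_IsAtom T S ∧ S ≤ W := by
  classical
  let P : ℕ → Prop := fun k => ∃ U : Submodule F V, U ∈ T.invtSubmodule ∧ U ≠ ⊥ ∧ U ≤ W ∧ Module.finrank F U = k
  have hP : ∃ k, P k := ⟨_, W, hW, hne, le_rfl, rfl⟩
  obtain ⟨S, hS, hSne, hSW, hSk⟩ := Nat.find_spec hP
  refine ⟨S, ⟨hS, hSne, ?_⟩, hSW⟩
  intro U hU hUS
  by_cases hU0 : U = ⊥
  · exact Or.inl hU0
  · right
    have hle : Nat.find hP ≤ Module.finrank F U := Nat.find_min' hP ⟨U, hU, hU0, hUS.trans hSW, rfl⟩
    rw [← hSk] at hle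
    exact Submodule.eq_of_le_of_finrank_le hUS hle

theorem h3_exists_compl (hT : T.IsSemisimple) {W U : Submodule F V} (hW : W ∈ T.invtSubmodule)
    (hU : U ∈ T.invtSubmodule) (hUW : U ≤ W) :
    ∃ C, C ∈ T.invtSubmodule ∧ C ≤ W ∧ Disjoint U C ∧ U ⊔ C = W := by
  obtain ⟨r, hrW, hr, hd, hs⟩ :=
    (Module.End.isSemisimple_restrict_iff W hW).mp (Module.End.IsSemisimple.restrict hW hT) U hU hUW
  exact ⟨r, hr, hrW, hd, hs⟩

end Cfsg.Agent.StGL
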