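import Mathlib
import Cfsg.Agent.StGL.H3_Invt

set_option autoImplicit false
set_option linter.unusedSectionVars false

/-! # S2425: atoms of the lattice of invariant subspaces, cyclic subspaces (helper3). -/

namespace Cfsg.Agent.StGL

open Polynomial Module

variable {F : Type*} [Field F] {V : Type*} [AddCommGroup V] [Module F V] [Module.Finite F V]
variable (T : Module.End F V)

/-- `g ↦ g(T) v` -/
noncomputable def h3_ev (v : V) : F[X] →ₗ[F] V := (LinearMap.applyₗ v).comp (aeval T).toLinearMap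

theorem h3_ev_apply (v : V) (g : F[X]) : h3_ev T v g = aeval T g v := rfl

/-- the cyclic subspace `F[T] v` -/
noncomputable def h3_cyc (v : V) : Submodule F V := LinearMap.range (h3_ev T v)

theorem h3_mem_cyc (v : V) : v ∈ h3_cyc T v := ⟨1, by rw [h3_ev_apply, map_one, Module.End.one_apply]⟩

theorem h3_cyc_mem_invt (v : V) : h3_cyc T v ∈ T.invtSubmodule := by
  rintro w ⟨g, rfl⟩
  refine ⟨X * g, ?_⟩
  rw [h3_ev_apply, h3_ev_apply, map_mul, aeval_X, Module.End.mul_apply]

theorem h3_cyc_le {U : Submodule F V} (hU : U ∈ T.invtSubmodule) {v : V} (hv : v ∈ U) : h3_cyc T v ≤ U := by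
  rintro w ⟨g, rfl⟩
  exact h3_aeval_mem T hU g hv

theorem h3_cyc_ne_bot {v : V} (hv : v ≠ 0) : h3_cyc T v ≠ ⊥ := by
  intro h
  have := h3_mem_cyc T v
  rw [h, Submodule.mem_bot] at this
  exact hv this

theorem h3_le_ker_iff {W : Submodule F V} (hW : W ∈ T.invtSubmodule) (g : F[X]) :
    W ≤ LinearMap.ker (aeval T g) ↔ aeval (h3_res T hW) g = 0 := by
  constructor
  · intro h
    apply LinearMap.ext
    intro v
    apply Subtype.ext
    rw [h3_aeval_restrict]
    exact LinearMap.mem_ker.mp (h v.2)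
  · intro h v hv
    rw [LinearMap.mem_ker]
    have := h3_aeval_restrict T hW g ⟨v, hv⟩
    rw [h] at this
    exact this.symm

theorem h3_atom_ker {S : Submodule F V} (hS : h3_IsAtom T S) (g : F[X]) :
    LinearMap.ker (aeval T g) ⊓ S = ⊥ ∨ S ≤ LinearMap.ker (aeval T g) := by
  rcases hS.2.2 _ (h3_inf_mem T (h3_ker_mem T g) hS.1) inf_le_right with h | h
  · exact Or.inl h
  · exact Or.inr (inf_eq_right.mp h)

theorem h3_atom_le_ker_iff_minpoly {S : Submodule F V} (hS : h3_IsAtom T S) (g : F[X]) :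
    S ≤ LinearMap.ker (aeval T g) ↔ minpoly F (h3_res T hS.1) ∣ g := by
  rw [h3_le_ker_iff T hS.1, minpoly.dvd_iff]

theorem h3_atom_minpoly_irreducible {S : Submodule F V} (hS : h3_IsAtom T S) :
    Irreducible (minpoly F (h3_res T hS.1)) := by
  set μ := minpoly F (h3_res T hS.1) with hμ
  have hμ0 : μ ≠ 0 := minpoly.ne_zero (Algebra.IsIntegral.isIntegral _)
  rw [irreducible_iff]
  constructor
  · intro hu
    have h1 : μ ∣ 1 := hu.dvd
    rw [hμ, ← h3_atom_le_ker_iff_minpoly T hS 1, map_one] at h1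
    apply hS.2.1
    rw [eq_bot_iff]
    intro v hv
    have := h1 hv
    rwa [LinearMap.mem_ker, Module.End.one_apply] at this
  · intro a b hab
    have key : ∀ a b : F[X], μ = a * b → S ≤ LinearMap.ker (aeval T a) → IsUnit b := by
      intro a b hab h
      rw [h3_atom_le_ker_iff_minpoly T hS a] at h
      obtain ⟨c, hc⟩ := h
      have : μ * 1 = μ * (c * b) := by
        rw [mul_one, ← mul_assoc, ← hc, ← hab]
      have h1 : 1 = c * b := mul_left_cancel₀ hμ0 this
      exact IsUnit.of_mul_eq_one c (by rw [mul_comm]; exact h1.symm)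
    rcases h3_atom_ker T hS a with h | h
    · left
      apply key b a (by rw [hab, mul_comm])
      intro v hv
      have hbv : aeval T b v ∈ LinearMap.ker (aeval T a) ⊓ S := by
        refine ⟨?_, h3_aeval_mem T hS.1 b hv⟩
        change aeval T b v ∈ LinearMap.ker (aeval T a)
        rw [LinearMap.mem_ker, ← Module.End.mul_apply, ← map_mul, ← hab]
        have hle : S ≤ LinearMap.ker (aeval T μ) := by
          rw [h3_atom_le_ker_iff_minpoly T hS μ]
        exact LinearMap.mem_ker.mp (hle hv)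
      rw [h, Submodule.mem_bot] at hbv
      exact LinearMap.mem_ker.mpr hbv
    · right
      exact key a b hab h

theorem h3_atom_finrank_le {S : Submodule F V} (hS : h3_IsAtom T S) :
    Module.finrank F S ≤ (minpoly F (h3_res T hS.1)).natDegree := by
  set μ := minpoly F (h3_res T hS.1) with hμ
  have hμm : μ.Monic := minpoly.monic (Algebra.IsIntegral.isIntegral _)
  obtain ⟨s, hsS, hs0⟩ := Submodule.exists_mem_ne_zero_of_ne_bot hS.2.1
  have hcyc : h3_cyc T s = S := by
    rcases hS.2.2 _ (h3_cyc_mem_invt T s) (h3_cyc_le T hS.1 hsS) with h | h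
    · exact absurd h (h3_cyc_ne_bot T hs0)
    · exact h
  have hμs : aeval T μ s = 0 := by
    have hle : S ≤ LinearMap.ker (aeval T μ) := by
      rw [h3_atom_le_ker_iff_minpoly T hS μ]
    exact LinearMap.mem_ker.mp (hle hsS)
  have hle : h3_cyc T s ≤ (degreeLT F μ.natDegree).map (h3_ev T s) := by
    rintro w ⟨g, rfl⟩
    refine ⟨g %ₘ μ, ?_, ?_⟩
    · rw [SetLike.mem_coe, mem_degreeLT]
      calc (g %ₘ μ).degree < μ.degree := degree_modByMonic_lt g hμm
        _ = (μ.natDegree : WithBot ℕ) := degree_eq_natDegree hμm.ne_zero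
    · rw [h3_ev_apply, h3_ev_apply]
      conv_rhs => rw [← modByMonic_add_div g μ]
      rw [map_add, LinearMap.add_apply, mul_comm μ (g /ₘ μ), map_mul, Module.End.mul_apply, hμs, map_zero, add_zero]
  calc Module.finrank F S = Module.finrank F (h3_cyc T s) := by rw [hcyc]
    _ ≤ Module.finrank F ((degreeLT F μ.natDegree).map (h3_ev T s)) := Submodule.finrank_mono hle
    _ ≤ Module.finrank F (degreeLT F μ.natDegree) := Submodule.finrank_map_le _ _
    _ = μ.natDegree := by
      rw [LinearEquiv.finrank_eq (degreeLTEquiv F μ.natDegree), Module.finrank_fin_fun]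

theorem h3_atom_cp_eq_minpoly {S : Submodule F V} (hS : h3_IsAtom T S) :
    h3_cp T S = minpoly F (h3_res T hS.1) := by
  rw [h3_cp_of_mem T hS.1]
  apply eq_of_monic_of_dvd_of_natDegree_le (minpoly.monic (Algebra.IsIntegral.isIntegral _))
    (LinearMap.charpoly_monic _) (LinearMap.minpoly_dvd_charpoly _)
  rw [LinearMap.charpoly_natDegree]
  exact h3_atom_finrank_le T hS

theorem h3_atom_cp_irreducible {S : Submodule F V} (hS : h3_IsAtom T S) : Irreducible (h3_cp T S) := by
  rw [h3_atom_cp_eq_minpoly T hS]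
  exact h3_atom_minpoly_irreducible T hS

theorem h3_atom_le_ker_iff {S : Submodule F V} (hS : h3_IsAtom T S) (g : F[X]) :
    S ≤ LinearMap.ker (aeval T g) ↔ h3_cp T S ∣ g := by
  rw [h3_atom_cp_eq_minpoly T hS]
  exact h3_atom_le_ker_iff_minpoly T hS g

theorem h3_atom_le_ker_self {S : Submodule F V} (hS : h3_IsAtom T S) :
    S ≤ LinearMap.ker (aeval T (h3_cp T S)) := (h3_atom_le_ker_iff T hS _).mpr dvd_rfl

theorem h3_atom_ker_of_ne {S : Submodule F V} (hS : h3_IsAtom T S) {f : F[X]} (hf : Irreducible f)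
    (hfm : f.Monic) (hne : f ≠ h3_cp T S) : LinearMap.ker (aeval T f) ⊓ S = ⊥ := by
  rcases h3_atom_ker T hS f with h | h
  · exact h
  · exfalso
    rw [h3_atom_le_ker_iff T hS f] at h
    have hassoc : Associated (h3_cp T S) f :=
      Irreducible.associated_of_dvd (h3_atom_cp_irreducible T hS) hf h
    exact hne (eq_of_monic_of_associated (h3_cp_monic T S) hfm hassoc).symm

end Cfsg.Agent.StGL
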