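import Mathlib
import Cfsg.Agent.StGL.H3_Atom

set_option autoImplicit false
set_option linter.unusedSectionVars false

/-! # S2425: the invariant complements of a coatom, counted by the cyclic trick (helper3). -/

namespace Cfsg.Agent.StGL

open Polynomial Module

variable {F : Type*} [Field F] {V : Type*} [AddCommGroup V] [Module F V] [Module.Finite F V]
variable (T : Module.End F V)

/-- a non-zero vector killed by an irreducible polynomial in `T` generates an atom -/
theorem h3_cyc_atom {f : F[X]} (hf : Irreducible f) {v : V} (hv : v ≠ 0) (hfv : aeval T f v = 0) :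
    h3_IsAtom T (h3_cyc T v) := by
  refine ⟨h3_cyc_mem_invt T v, h3_cyc_ne_bot T hv, ?_⟩
  intro U hU hUc
  by_cases hU0 : U = ⊥
  · exact Or.inl hU0
  · right
    obtain ⟨u, huU, hu0⟩ := Submodule.exists_mem_ne_zero_of_ne_bot hU0
    obtain ⟨g, rfl⟩ := hUc huU
    rw [h3_ev_apply] at hu0 huU
    have hndvd : ¬ f ∣ g := by
      rintro ⟨c, rfl⟩
      apply hu0
      rw [mul_comm, map_mul, Module.End.mul_apply, hfv, map_zero]
    obtain ⟨a, b, hab⟩ := (hf.coprime_iff_not_dvd.mpr hndvd)
    have hvU : v ∈ U := by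
      have h1 : aeval T (a * f + b * g) v = v := by
        rw [hab, map_one, Module.End.one_apply]
      rw [map_add, LinearMap.add_apply, map_mul, Module.End.mul_apply, hfv, map_zero, zero_add, map_mul,
        Module.End.mul_apply] at h1
      rw [← h1]
      exact h3_aeval_mem T hU b huU
    exact le_antisymm hUc (h3_cyc_le T hU hvU)

/-- an invariant complement of `H` in `H ⊔ S`, `S` an atom, is again an atom with the same characteristic polynomial -/
theorem h3_compl_atom {H S S' : Submodule F V} (hH : H ∈ T.invtSubmodule) (hS : h3_IsAtom T S)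
    (hS' : S' ∈ T.invtSubmodule) (hd : Disjoint H S) (hd' : Disjoint H S') (hsup : H ⊔ S = H ⊔ S') :
    h3_IsAtom T S' ∧ h3_cp T S' = h3_cp T S := by
  have hfr : Module.finrank F S' = Module.finrank F S := by
    have h1 := h3_finrank_sup (F := F) hd
    have h2 := h3_finrank_sup (F := F) hd'
    rw [hsup] at h1
    omega
  have hSpos : 0 < Module.finrank F S := by
    rcases Nat.eq_zero_or_pos (Module.finrank F S) with h | h
    · exact absurd (Submodule.finrank_eq_zero.mp h) hS.2.1
    · exact h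
  refine ⟨⟨hS', ?_, ?_⟩, ?_⟩
  · intro h
    rw [h, finrank_bot] at hfr
    omega
  · intro U hU hUS'
    by_cases hU0 : U = ⊥
    · exact Or.inl hU0
    · right
      have hdU : Disjoint H U := hd'.mono_right hUS'
      have hHU : H ⊔ U ∈ T.invtSubmodule := h3_sup_mem T hH hU
      have hHUle : H ⊔ U ≤ H ⊔ S := by rw [hsup]; exact sup_le_sup_left hUS' H
      rcases hS.2.2 _ (h3_inf_mem T hHU hS.1) inf_le_right with h | h
      · exfalso
        have hdd : Disjoint (H ⊔ U) S := disjoint_iff.mpr h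
        have h1 := h3_finrank_sup (F := F) hdd
        have h2 := h3_finrank_sup (F := F) hdU
        have h3 := h3_finrank_sup (F := F) hd
        have hle : (H ⊔ U) ⊔ S ≤ H ⊔ S := sup_le hHUle le_sup_right
        have h4 := Submodule.finrank_mono hle
        have hUpos : 0 < Module.finrank F U := by
          rcases Nat.eq_zero_or_pos (Module.finrank F U) with h | h
          · exact absurd (Submodule.finrank_eq_zero.mp h) hU0
          · exact h
        omega
      · have hSle : S ≤ H ⊔ U := inf_eq_right.mp h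
        have heq : H ⊔ U = H ⊔ S' := by
          apply le_antisymm (sup_le_sup_left hUS' H)
          rw [← hsup]
          exact sup_le le_sup_left hSle
        have h2 := h3_finrank_sup (F := F) hdU
        have h3 := h3_finrank_sup (F := F) hd'
        rw [heq] at h2
        exact Submodule.eq_of_le_of_finrank_le hUS' (by omega)
  · have h1 := h3_cp_sup T hH hS.1 hd
    have h2 := h3_cp_sup T hH hS' hd'
    rw [hsup] at h1
    rw [h1] at h2
    exact (mul_left_cancel₀ (h3_cp_ne_zero T H) h2).symm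

/-- **cyclic trick**: the invariant complements of the coatom `H` in `H ⊔ S₀` (`S₀` an atom) are counted by
`ker f(T) ∩ H`, `f` the characteristic polynomial of `T` on `S₀`. -/
theorem h3_card_compl {H S₀ : Submodule F V} (hH : H ∈ T.invtSubmodule) (hS₀ : h3_IsAtom T S₀)
    (hd : Disjoint H S₀) :
    Nat.card {S' : Submodule F V // S' ∈ T.invtSubmodule ∧ Disjoint H S' ∧ H ⊔ S' = H ⊔ S₀} =
      Nat.card ↥(LinearMap.ker (aeval T (h3_cp T S₀)) ⊓ H) := by
  set f := h3_cp T S₀ with hf
  have hfirr : Irreducible f := h3_atom_cp_irreducible T hS₀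
  obtain ⟨s₀, hs₀S, hs₀0⟩ := Submodule.exists_mem_ne_zero_of_ne_bot hS₀.2.1
  have hfs₀ : aeval T f s₀ = 0 := LinearMap.mem_ker.mp (h3_atom_le_ker_self T hS₀ hs₀S)
  have hs₀H : s₀ ∉ H := by
    intro h
    have : s₀ ∈ H ⊓ S₀ := ⟨h, hs₀S⟩
    rw [hd.eq_bot, Submodule.mem_bot] at this
    exact hs₀0 this
  have hcycs₀ : h3_cyc T s₀ = S₀ := by
    rcases hS₀.2.2 _ (h3_cyc_mem_invt T s₀) (h3_cyc_le T hS₀.1 hs₀S) with h | h
    · exact absurd h (h3_cyc_ne_bot T hs₀0)
    · exact h
  have hC : H ⊔ S₀ ∈ T.invtSubmodule := h3_sup_mem T hH hS₀.1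
  -- properties of `cyc (s₀ + h)`
  have hprop : ∀ h : V, h ∈ LinearMap.ker (aeval T f) ⊓ H →
      h3_cyc T (s₀ + h) ∈ T.invtSubmodule ∧ Disjoint H (h3_cyc T (s₀ + h)) ∧
        H ⊔ h3_cyc T (s₀ + h) = H ⊔ S₀ := by
    rintro h ⟨hhk, hhH⟩
    have hv0 : s₀ + h ≠ 0 := by
      intro h0
      apply hs₀H
      have : s₀ = -h := eq_neg_of_add_eq_zero_left h0
      rw [this]
      exact H.neg_mem hhH
    have hfv : aeval T f (s₀ + h) = 0 := by
      rw [map_add, hfs₀, LinearMap.mem_ker.mp hhk, add_zero]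
    have hat := h3_cyc_atom T hfirr hv0 hfv
    refine ⟨hat.1, ?_, ?_⟩
    · rw [disjoint_iff]
      rcases hat.2.2 _ (h3_inf_mem T hH hat.1) inf_le_right with h1 | h1
      · exact h1
      · exfalso
        have hle : h3_cyc T (s₀ + h) ≤ H := inf_eq_right.mp h1
        have hvH : s₀ + h ∈ H := hle (h3_mem_cyc T _)
        apply hs₀H
        have : s₀ = (s₀ + h) - h := by abel
        rw [this]
        exact H.sub_mem hvH hhH
    · apply le_antisymm
      · apply sup_le le_sup_left
        apply h3_cyc_le T hC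
        exact Submodule.add_mem_sup hs₀S hhH |> fun hh => by
          rw [sup_comm]; exact hh
      · apply sup_le le_sup_left
        rw [← hcycs₀]
        apply h3_cyc_le T (h3_sup_mem T hH hat.1)
        have hmem : -h + (s₀ + h) ∈ H ⊔ h3_cyc T (s₀ + h) :=
          Submodule.add_mem_sup (H.neg_mem hhH) (h3_mem_cyc T _)
        have : -h + (s₀ + h) = s₀ := by abel
        rwa [this] at hmem
  let Φ : ↥(LinearMap.ker (aeval T f) ⊓ H) →
      {S' : Submodule F V // S' ∈ T.invtSubmodule ∧ Disjoint H S' ∧ H ⊔ S' = H ⊔ S₀} :=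
    fun h => ⟨h3_cyc T (s₀ + (h : V)), hprop h h.2⟩
  have hinj : Function.Injective Φ := by
    intro h₁ h₂ h12
    have heq : h3_cyc T (s₀ + (h₁ : V)) = h3_cyc T (s₀ + (h₂ : V)) := congrArg Subtype.val h12
    have hm1 : s₀ + (h₁ : V) ∈ h3_cyc T (s₀ + (h₂ : V)) := heq ▸ h3_mem_cyc T _
    have hm2 : s₀ + (h₂ : V) ∈ h3_cyc T (s₀ + (h₂ : V)) := h3_mem_cyc T _
    have hdiff : (h₁ : V) - (h₂ : V) ∈ H ⊓ h3_cyc T (s₀ + (h₂ : V)) := by
      refine ⟨H.sub_mem h₁.2.2 h₂.2.2, ?_⟩
      have : (h₁ : V) - (h₂ : V) = (s₀ + (h₁ : V)) - (s₀ + (h₂ : V)) := by abel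
      rw [this]
      exact Submodule.sub_mem _ hm1 hm2
    rw [(hprop h₂ h₂.2).2.1.eq_bot, Submodule.mem_bot] at hdiff
    exact Subtype.ext (sub_eq_zero.mp hdiff)
  have hsurj : Function.Surjective Φ := by
    rintro ⟨S', hS', hdS', hsupS'⟩
    obtain ⟨hatS', hcpS'⟩ := h3_compl_atom T hH hS₀ hS' hd hdS' hsupS'.symm
    have hs₀C : s₀ ∈ H ⊔ S' := by
      rw [hsupS']
      exact Submodule.mem_sup_right hs₀S
    obtain ⟨h', hh'H, s', hs'S', hsum⟩ := Submodule.mem_sup.mp hs₀C
    have hs' : s' = s₀ + (-h') := by rw [← hsum]; abel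
    have hfs' : aeval T f s' = 0 := by
      have := h3_atom_le_ker_self T hatS' hs'S'
      rw [hcpS'] at this
      exact LinearMap.mem_ker.mp this
    have hker : -h' ∈ LinearMap.ker (aeval T f) ⊓ H := by
      refine ⟨?_, H.neg_mem hh'H⟩
      change -h' ∈ LinearMap.ker (aeval T f)
      rw [LinearMap.mem_ker]
      have : -h' = s' - s₀ := by rw [hs']; abel
      rw [this, map_sub, hfs', hfs₀, sub_zero]
    refine ⟨⟨-h', hker⟩, ?_⟩
    apply Subtype.ext
    change h3_cyc T (s₀ + -h') = S'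
    rw [← hs']
    have hs'0 : s' ≠ 0 := by
      intro h0
      apply hs₀H
      rw [← hsum, h0, add_zero]
      exact hh'H
    rcases hatS'.2.2 _ (h3_cyc_mem_invt T s') (h3_cyc_le T hS' hs'S') with h | h
    · exact absurd h (h3_cyc_ne_bot T hs'0)
    · exact h
  exact (Nat.card_congr (Equiv.ofBijective Φ ⟨hinj, hsurj⟩)).symm

end Cfsg.Agent.StGL
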