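import Mathlib
import Cfsg.Agent.StGL.H3_Base

set_option autoImplicit false
set_option linter.unusedSectionVars false

/-! # S2425: the closed formula `h3_phi` under multiplication by an irreducible factor (helper3). -/

namespace Cfsg.Agent.StGL

open Polynomial UniqueFactorizationMonoid

variable {F : Type*} [Field F] [DecidableEq F]

/-- The local factor of `h3_phi`. -/
def h3_term (q : ℕ) (f : F[X]) (c : ℕ) : ℤ := (-1 : ℤ) ^ c * (q : ℤ) ^ (f.natDegree * c.choose 2)

theorem h3_term_zero (q : ℕ) (f : F[X]) : h3_term q f 0 = 1 := by simp [h3_term]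

theorem h3_term_succ (q : ℕ) (f : F[X]) (c : ℕ) :
    h3_term q f (c + 1) = -((q : ℤ) ^ (f.natDegree * c)) * h3_term q f c := by
  unfold h3_term
  rw [Nat.choose_succ_succ' c 1, Nat.choose_one_right, Nat.mul_add, pow_add, pow_succ]
  ring

theorem h3_phi_eq_prod (q : ℕ) (P : F[X]) (A : Finset F[X]) (hA : (normalizedFactors P).toFinset ⊆ A) :
    h3_phi q P = ∏ f ∈ A, h3_term q f ((normalizedFactors P).count f) := by
  unfold h3_phi
  apply Finset.prod_subset hA
  intro f _ hf
  have : (normalizedFactors P).count f = 0 := by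
    rw [Multiset.count_eq_zero]
    intro h
    exact hf (Multiset.mem_toFinset.mpr h)
  rw [this]
  simp

theorem h3_phi_one (q : ℕ) : h3_phi q (1 : F[X]) = 1 := by
  unfold h3_phi
  simp

theorem h3_phi_mul_irr (q : ℕ) {P f : F[X]} (hP : P ≠ 0) (hf : Irreducible f) (hfm : f.Monic) :
    h3_phi q (P * f) =
      -((q : ℤ) ^ (f.natDegree * (normalizedFactors P).count f)) * h3_phi q P := by
  have hnf : normalizedFactors (P * f) = normalizedFactors P + {f} := by
    rw [normalizedFactors_mul hP hf.ne_zero, normalizedFactors_irreducible hf, hfm.normalize_eq_self]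
  set A : Finset F[X] := (normalizedFactors (P * f)).toFinset with hA
  have hfA : f ∈ A := by
    rw [hA, hnf]
    simp
  have hsub : (normalizedFactors P).toFinset ⊆ A := by
    rw [hA, hnf]
    intro g hg
    simp only [Multiset.toFinset_add, Finset.mem_union]
    exact Or.inl hg
  rw [h3_phi_eq_prod q (P * f) A (le_refl _), h3_phi_eq_prod q P A hsub]
  rw [← Finset.mul_prod_erase A _ hfA, ← Finset.mul_prod_erase A _ hfA]
  have h1 : (normalizedFactors (P * f)).count f = (normalizedFactors P).count f + 1 := by
    rw [hnf, Multiset.count_add, Multiset.count_singleton_self]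
  have h2 : ∏ g ∈ A.erase f, h3_term q g ((normalizedFactors (P * f)).count g) =
      ∏ g ∈ A.erase f, h3_term q g ((normalizedFactors P).count g) := by
    apply Finset.prod_congr rfl
    intro g hg
    have hgf : g ≠ f := Finset.ne_of_mem_erase hg
    rw [hnf, Multiset.count_add, Multiset.count_singleton, if_neg hgf, add_zero]
  rw [h1, h2, h3_term_succ]
  ring

end Cfsg.Agent.StGL
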