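import Mathlib
import Cfsg.Agent.StGL.H3_Atom
import Cfsg.Agent.StGL.H3_Phi

set_option autoImplicit false
set_option linter.unusedSectionVars false

/-! # S2425: kernels of irreducible polynomials on invariant subspaces of a semisimple endomorphism, and the
behaviour of `h3_m` under adjoining an atom (helper3). -/

namespace Cfsg.Agent.StGL

open Polynomial Module UniqueFactorizationMonoid

variable {F : Type*} [Field F] [DecidableEq F] {V : Type*} [AddCommGroup V] [Module F V] [Module.Finite F V]
variable (T : Module.End F V)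

theorem h3_finrank_pos_of_ne_bot {S : Submodule F V} (hS : S ≠ ⊥) : 0 < Module.finrank F S := by
  rcases Nat.eq_zero_or_pos (Module.finrank F S) with h | h
  · exact absurd (Submodule.finrank_eq_zero.mp h) hS
  · exact h

/-- (K): on a semisimple module, `dim ker f(T)|_W = deg f · (multiplicity of f in the char. polynomial of T|_W)` -/
theorem h3_finrank_ker_eq (hT : T.IsSemisimple) {f : F[X]} (hf : Irreducible f) (hfm : f.Monic) :
    ∀ (k : ℕ) (W : Submodule F V), W ∈ T.invtSubmodule → Module.finrank F W = k →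
      Module.finrank F ↥(LinearMap.ker (aeval T f) ⊓ W) =
        f.natDegree * (normalizedFactors (h3_cp T W)).count f := by
  intro k
  induction k using Nat.strong_induction_on with
  | _ k ih =>
  intro W hW hk
  by_cases hW0 : W = ⊥
  · subst hW0
    rw [inf_bot_eq, finrank_bot, h3_cp_bot, normalizedFactors_one]
    simp
  · obtain ⟨S, hS, hSW⟩ := h3_exists_atom T hW hW0
    obtain ⟨C, hC, hCW, hd, hsup⟩ := h3_exists_compl T hT hW hS.1 hSW
    have hfr : Module.finrank F W = Module.finrank F S + Module.finrank F C := by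
      rw [← hsup]; exact h3_finrank_sup hd
    have hSpos : 0 < Module.finrank F S := h3_finrank_pos_of_ne_bot hS.2.1
    have ihC := ih (Module.finrank F C) (by omega) C hC rfl
    rw [← hsup, h3_finrank_ker_inf_sup T f hS.1 hC hd, ihC, h3_cp_sup T hS.1 hC hd,
      normalizedFactors_mul (h3_cp_ne_zero T S) (h3_cp_ne_zero T C),
      normalizedFactors_irreducible (h3_atom_cp_irreducible T hS), (h3_cp_monic T S).normalize_eq_self,
      Multiset.count_add, Multiset.count_singleton]
    by_cases hfS : f = h3_cp T S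
    · have hle : S ≤ LinearMap.ker (aeval T f) := by
        rw [hfS]; exact h3_atom_le_ker_self T hS
      rw [inf_eq_right.mpr hle, if_pos hfS, ← h3_cp_natDegree T hS.1, ← hfS]
      ring
    · rw [h3_atom_ker_of_ne T hS hf hfm hfS, finrank_bot, if_neg hfS]
      ring

variable [Fintype F]

theorem h3_card_ker_eq {q : ℕ} (hq : Fintype.card F = q) (hT : T.IsSemisimple) {f : F[X]} (hf : Irreducible f)
    (hfm : f.Monic) {W : Submodule F V} (hW : W ∈ T.invtSubmodule) :
    Nat.card ↥(LinearMap.ker (aeval T f) ⊓ W) =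
      q ^ (f.natDegree * (normalizedFactors (h3_cp T W)).count f) := by
  rw [Module.natCard_eq_pow_finrank (K := F), Nat.card_eq_fintype_card, hq,
    h3_finrank_ker_eq T hT hf hfm _ W hW rfl]

/-- (m1): adjoining an atom -/
theorem h3_m_sup_atom {q : ℕ} (hq : Fintype.card F = q) (hT : T.IsSemisimple) {W S : Submodule F V}
    (hW : W ∈ T.invtSubmodule) (hS : h3_IsAtom T S) (hd : Disjoint W S) :
    h3_m q T (W ⊔ S) = -(Nat.card ↥(LinearMap.ker (aeval T (h3_cp T S)) ⊓ W) : ℤ) * h3_m q T W := by
  unfold h3_m
  rw [h3_cp_sup T hW hS.1 hd, h3_phi_mul_irr q (h3_cp_ne_zero T W) (h3_atom_cp_irreducible T hS) (h3_cp_monic T S),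
    h3_card_ker_eq T hq hT (h3_atom_cp_irreducible T hS) (h3_cp_monic T S) hW]
  push_cast
  rfl

theorem h3_m_bot (q : ℕ) : h3_m q T ⊥ = 1 := by
  unfold h3_m
  rw [h3_cp_bot, h3_phi_one]

end Cfsg.Agent.StGL
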