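import Mathlib
import Cfsg.Agent.StGL.H3_Ker
import Cfsg.Agent.StGL.H3_Cyclic

set_option autoImplicit false
set_option linter.unusedSectionVars false

/-! # S2425, Piece C: the Moebius identity `∑_{W' ≤ W invariant} h3_m W' = 0` for `W ≠ ⊥` (helper3). -/

namespace Cfsg.Agent.StGL

open Polynomial Module

variable {F : Type*} [Field F] [Fintype F] [DecidableEq F] {V : Type*} [AddCommGroup V] [Module F V]
  [Module.Finite F V] [Finite (Submodule F V)]
variable (T : Module.End F V)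

/-- the finite set of invariant subspaces below `W` -/
noncomputable def h3_B (W : Submodule F V) : Finset (Submodule F V) := (Set.toFinite (h3_below T W)).toFinset

theorem h3_mem_B {W W' : Submodule F V} : W' ∈ h3_B T W ↔ W' ∈ T.invtSubmodule ∧ W' ≤ W := by
  unfold h3_B
  rw [Set.Finite.mem_toFinset]
  rfl

theorem h3_card_ker_sup (g : F[X]) {W₁ W₂ : Submodule F V}
    (h₁ : W₁ ∈ T.invtSubmodule) (h₂ : W₂ ∈ T.invtSubmodule) (hd : Disjoint W₁ W₂) :
    Nat.card ↥(LinearMap.ker (aeval T g) ⊓ (W₁ ⊔ W₂)) =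
      Nat.card ↥(LinearMap.ker (aeval T g) ⊓ W₁) * Nat.card ↥(LinearMap.ker (aeval T g) ⊓ W₂) := by
  rw [Module.natCard_eq_pow_finrank (K := F), Module.natCard_eq_pow_finrank (K := F) (V := ↥(LinearMap.ker (aeval T g) ⊓ W₁)),
    Module.natCard_eq_pow_finrank (K := F) (V := ↥(LinearMap.ker (aeval T g) ⊓ W₂)),
    h3_finrank_ker_inf_sup T g h₁ h₂ hd, pow_add]

/-- a complement of an atom in `W` is a coatom of the invariant subspaces below `W` -/
theorem h3_sup_eq_of_not_le {W S H W' : Submodule F V} (hS : h3_IsAtom T S) (hH : H ∈ T.invtSubmodule)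
    (hd : Disjoint H S) (hsup : H ⊔ S = W) (hW' : W' ∈ T.invtSubmodule) (hW'W : W' ≤ W) (hnle : ¬ W' ≤ H) :
    H ⊔ W' = W := by
  have hHW' : H ⊔ W' ∈ T.invtSubmodule := h3_sup_mem T hH hW'
  have hle : H ⊔ W' ≤ W := sup_le (hsup ▸ le_sup_left) hW'W
  rcases hS.2.2 _ (h3_inf_mem T hHW' hS.1) inf_le_right with h | h
  · exfalso
    have hdd : Disjoint (H ⊔ W') S := disjoint_iff.mpr h
    have h1 := h3_finrank_sup (F := F) hdd
    have h2 := h3_finrank_sup (F := F) hd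
    rw [hsup] at h2
    have hle2 : (H ⊔ W') ⊔ S ≤ W := sup_le hle (hsup ▸ le_sup_right)
    have h3 := Submodule.finrank_mono hle2
    have h4 : Module.finrank F ↥(H ⊔ W') ≤ Module.finrank F H := by omega
    have : H ⊔ W' = H := (Submodule.eq_of_le_of_finrank_le le_sup_left h4).symm
    exact hnle (this ▸ le_sup_right)
  · apply le_antisymm hle
    rw [← hsup]
    exact sup_le le_sup_left (inf_eq_right.mp h)

/-- the sum of `h3_m` over the invariant `W' ≤ W` not below the coatom `H` and with `W' ⊓ H = W''` -/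
theorem h3_fiber_sum {q : ℕ} (hq : Fintype.card F = q) (hT : T.IsSemisimple) {W S H W'' : Submodule F V}
    (hW : W ∈ T.invtSubmodule) (hS : h3_IsAtom T S) (hH : H ∈ T.invtSubmodule) (hd : Disjoint H S)
    (hsup : H ⊔ S = W) (hW'' : W'' ∈ T.invtSubmodule) (hW''H : W'' ≤ H) [DecidableEq (Submodule F V)]
    [DecidablePred fun W' : Submodule F V => ¬ W' ≤ H ∧ W' ⊓ H = W''] :
    ∑ W' ∈ (h3_B T W).filter (fun W' => ¬ W' ≤ H ∧ W' ⊓ H = W''), h3_m q T W' =
      -(Nat.card ↥(LinearMap.ker (aeval T (h3_cp T S)) ⊓ H) : ℤ) * h3_m q T W'' := by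
  classical
  have hHW : H ≤ W := hsup ▸ le_sup_left
  have hW''W : W'' ≤ W := hW''H.trans hHW
  obtain ⟨C, hC, hCW, hdC, hsupC⟩ := h3_exists_compl T hT hW hW'' hW''W
  set H' := H ⊓ C with hH'
  have hH'm : H' ∈ T.invtSubmodule := h3_inf_mem T hH hC
  have hH'C : H' ≤ C := inf_le_right
  have hH'H : H' ≤ H := inf_le_left
  obtain ⟨S₀, hS₀, hS₀C, hdS₀, hsupS₀⟩ := h3_exists_compl T hT hC hH'm hH'C
  have hHdecomp : W'' ⊔ H' = H := by
    rw [hH', inf_comm, ← sup_inf_assoc_of_le C hW''H, hsupC]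
    exact inf_eq_right.mpr hHW
  have hdW''H' : Disjoint W'' H' := hdC.mono_right hH'C
  have hdHS₀ : Disjoint H S₀ := by
    rw [disjoint_iff, eq_bot_iff]
    rintro v ⟨hvH, hvS₀⟩
    have : v ∈ H' ⊓ S₀ := ⟨⟨hvH, hS₀C hvS₀⟩, hvS₀⟩
    rwa [hdS₀.eq_bot] at this
  have hHS₀ : H ⊔ S = H ⊔ S₀ := by
    rw [hsup, ← hHdecomp, sup_assoc, hsupS₀, hsupC]
  obtain ⟨hatS₀, hcpS₀⟩ := h3_compl_atom T hH hS hS₀ hd hdHS₀ hHS₀
  -- finrank bookkeeping
  have hfrW : Module.finrank F W = Module.finrank F W'' + Module.finrank F C := by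
    rw [← hsupC]; exact h3_finrank_sup hdC
  have hfrC : Module.finrank F C = Module.finrank F H' + Module.finrank F S₀ := by
    rw [← hsupS₀]; exact h3_finrank_sup hdS₀
  have hfrH : Module.finrank F H = Module.finrank F W'' + Module.finrank F H' := by
    rw [← hHdecomp]; exact h3_finrank_sup hdW''H'
  -- the set of complements
  let _ : Fintype (Submodule F V) := Fintype.ofFinite _
  set 𝒮 : Finset (Submodule F V) :=
    Finset.univ.filter (fun S' => S' ∈ T.invtSubmodule ∧ Disjoint H' S' ∧ H' ⊔ S' = H' ⊔ S₀) with h𝒮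
  have hmem𝒮 : ∀ S', S' ∈ 𝒮 ↔ S' ∈ T.invtSubmodule ∧ Disjoint H' S' ∧ H' ⊔ S' = H' ⊔ S₀ := by
    intro S'
    rw [h𝒮, Finset.mem_filter]
    simp
  have hcard𝒮 : (𝒮.card : ℤ) = (Nat.card ↥(LinearMap.ker (aeval T (h3_cp T S)) ⊓ H') : ℤ) := by
    rw [← hcpS₀, ← h3_card_compl T hH'm hatS₀ hdS₀, Nat.card_eq_fintype_card, Fintype.card_subtype]
  -- properties of members of `𝒮`
  have hprop : ∀ S' ∈ 𝒮, h3_IsAtom T S' ∧ h3_cp T S' = h3_cp T S ∧ S' ≤ C ∧ Disjoint W'' S' := by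
    intro S' hS'
    obtain ⟨hS'm, hdS', hsupS'⟩ := (hmem𝒮 S').mp hS'
    obtain ⟨hat, hcp⟩ := h3_compl_atom T hH'm hatS₀ hS'm hdS₀ hdS' hsupS'.symm
    have hS'C : S' ≤ C := by
      calc S' ≤ H' ⊔ S' := le_sup_right
        _ = C := by rw [hsupS', hsupS₀]
    exact ⟨hat, hcp.trans hcpS₀, hS'C, hdC.mono_right hS'C⟩
  -- the fibre is the image of `𝒮`
  have himage : (h3_B T W).filter (fun W' => ¬ W' ≤ H ∧ W' ⊓ H = W'') = 𝒮.image (fun S' => W'' ⊔ S') := by
    ext W'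
    rw [Finset.mem_filter, h3_mem_B, Finset.mem_image]
    constructor
    · rintro ⟨⟨hW'm, hW'W⟩, hnle, hinf⟩
      have hW''W' : W'' ≤ W' := hinf ▸ inf_le_left
      have hsupW' : W'' ⊔ (W' ⊓ C) = W' := by
        rw [inf_comm, ← sup_inf_assoc_of_le C hW''W', hsupC]
        exact inf_eq_right.mpr hW'W
      refine ⟨W' ⊓ C, ?_, hsupW'⟩
      rw [hmem𝒮]
      have hS'm : W' ⊓ C ∈ T.invtSubmodule := h3_inf_mem T hW'm hC
      have hdH'S' : Disjoint H' (W' ⊓ C) := by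
        rw [disjoint_iff, eq_bot_iff]
        rintro v ⟨⟨hvH, hvC⟩, hvW', _⟩
        have h1 : v ∈ W' ⊓ H := ⟨hvW', hvH⟩
        rw [hinf] at h1
        have h2 : v ∈ W'' ⊓ C := ⟨h1, hvC⟩
        rwa [hdC.eq_bot] at h2
      refine ⟨hS'm, hdH'S', ?_⟩
      rw [hsupS₀]
      have hle : H' ⊔ (W' ⊓ C) ≤ C := sup_le hH'C inf_le_right
      apply Submodule.eq_of_le_of_finrank_le hle
      have h1 := h3_finrank_sup (F := F) hdH'S'
      have hdW''S' : Disjoint W'' (W' ⊓ C) := hdC.mono_right inf_le_right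
      have h2 := h3_finrank_sup (F := F) hdW''S'
      rw [hsupW'] at h2
      have h3 := h3_sup_eq_of_not_le T hS hH hd hsup hW'm hW'W hnle
      have h4 := Submodule.finrank_sup_add_finrank_inf_eq H W'
      rw [h3, inf_comm, hinf] at h4
      omega
    · rintro ⟨S', hS', rfl⟩
      obtain ⟨hat, _, hS'C, hdW''S'⟩ := hprop S' hS'
      obtain ⟨hS'm, hdS', _⟩ := (hmem𝒮 S').mp hS'
      have hS'H : S' ⊓ H = ⊥ := by
        rw [eq_bot_iff]
        rintro v ⟨hvS', hvH⟩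
        have : v ∈ H' ⊓ S' := ⟨⟨hvH, hS'C hvS'⟩, hvS'⟩
        rwa [hdS'.eq_bot] at this
      refine ⟨⟨h3_sup_mem T hW'' hS'm, sup_le hW''W (hS'C.trans hCW)⟩, ?_, ?_⟩
      · intro hle
        have hS'leH : S' ≤ H := le_sup_right.trans hle
        have : S' = ⊥ := by
          rw [← hS'H]; exact (inf_eq_left.mpr hS'leH).symm
        exact hat.2.1 this
      · rw [sup_inf_assoc_of_le S' hW''H, hS'H, sup_bot_eq]
  have hinj : Set.InjOn (fun S' => W'' ⊔ S') (𝒮 : Set (Submodule F V)) := by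
    intro S₁ hS₁ S₂ hS₂ h12
    have hrec : ∀ S' ∈ 𝒮, (W'' ⊔ S') ⊓ C = S' := by
      intro S' hS'
      obtain ⟨_, _, hS'C, _⟩ := hprop S' hS'
      rw [sup_comm, sup_inf_assoc_of_le W'' hS'C, hdC.eq_bot, sup_bot_eq]
    have h1 := hrec S₁ (Finset.mem_coe.mp hS₁)
    have h2 := hrec S₂ (Finset.mem_coe.mp hS₂)
    simp only at h12
    rw [← h1, ← h2, h12]
  rw [himage, Finset.sum_image hinj]
  have hconst : ∀ S' ∈ 𝒮, h3_m q T (W'' ⊔ S') =
      -(Nat.card ↥(LinearMap.ker (aeval T (h3_cp T S)) ⊓ W'') : ℤ) * h3_m q T W'' := by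
    intro S' hS'
    obtain ⟨hat, hcp, _, hdW''S'⟩ := hprop S' hS'
    rw [h3_m_sup_atom T hq hT hW'' hat hdW''S', hcp]
  rw [Finset.sum_congr rfl hconst, Finset.sum_const, nsmul_eq_mul, hcard𝒮]
  have hcardH : (Nat.card ↥(LinearMap.ker (aeval T (h3_cp T S)) ⊓ H) : ℤ) =
      (Nat.card ↥(LinearMap.ker (aeval T (h3_cp T S)) ⊓ W'') : ℤ) *
        (Nat.card ↥(LinearMap.ker (aeval T (h3_cp T S)) ⊓ H') : ℤ) := by
    rw [← hHdecomp, h3_card_ker_sup T _ hW'' hH'm hdW''H']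
    push_cast
    rfl
  rw [hcardH]
  ring

theorem h3_star_aux {q : ℕ} (hq : Fintype.card F = q) (hT : T.IsSemisimple) :
    ∀ (k : ℕ) (W : Submodule F V), W ∈ T.invtSubmodule → Module.finrank F W = k →
      ∑ W' ∈ h3_B T W, h3_m q T W' = if W = ⊥ then 1 else 0 := by
  classical
  intro k
  induction k using Nat.strong_induction_on with
  | _ k ih =>
  intro W hW hk
  by_cases hW0 : W = ⊥
  · subst hW0
    rw [if_pos rfl]
    have hB : h3_B T (⊥ : Submodule F V) = {⊥} := by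
      ext W'
      rw [h3_mem_B, Finset.mem_singleton]
      constructor
      · rintro ⟨_, h⟩
        exact le_bot_iff.mp h
      · rintro rfl
        exact ⟨h3_bot_mem T, le_rfl⟩
    rw [hB, Finset.sum_singleton, h3_m_bot]
  · rw [if_neg hW0]
    obtain ⟨S, hS, hSW⟩ := h3_exists_atom T hW hW0
    obtain ⟨H, hH, hHW, hdSH, hsupSH⟩ := h3_exists_compl T hT hW hS.1 hSW
    have hd : Disjoint H S := hdSH.symm
    have hsup : H ⊔ S = W := by rw [sup_comm]; exact hsupSH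
    have hsplit : h3_B T W = h3_B T H ∪ (h3_B T W).filter (fun W' => ¬ W' ≤ H) := by
      ext W'
      rw [Finset.mem_union, Finset.mem_filter, h3_mem_B, h3_mem_B]
      constructor
      · rintro ⟨h1, h2⟩
        by_cases hle : W' ≤ H
        · exact Or.inl ⟨h1, hle⟩
        · exact Or.inr ⟨⟨h1, h2⟩, hle⟩
      · rintro (⟨h1, h2⟩ | ⟨h, _⟩)
        · exact ⟨h1, h2.trans hHW⟩
        · exact h
    have hdisj : Disjoint (h3_B T H) ((h3_B T W).filter (fun W' => ¬ W' ≤ H)) := by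
      rw [Finset.disjoint_left]
      intro W' h1 h2
      rw [h3_mem_B] at h1
      rw [Finset.mem_filter] at h2
      exact h2.2 h1.2
    rw [hsplit, Finset.sum_union hdisj]
    have hmaps : ∀ W' ∈ (h3_B T W).filter (fun W' => ¬ W' ≤ H), W' ⊓ H ∈ h3_B T H := by
      intro W' hW'
      rw [Finset.mem_filter, h3_mem_B] at hW'
      rw [h3_mem_B]
      exact ⟨h3_inf_mem T hW'.1.1 hH, inf_le_right⟩
    rw [← Finset.sum_fiberwise_of_maps_to hmaps]
    have hterm : ∀ W'' ∈ h3_B T H,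
        ∑ W' ∈ ((h3_B T W).filter (fun W' => ¬ W' ≤ H)).filter (fun W' => W' ⊓ H = W''), h3_m q T W' =
          -(Nat.card ↥(LinearMap.ker (aeval T (h3_cp T S)) ⊓ H) : ℤ) * h3_m q T W'' := by
      intro W'' hW''
      rw [h3_mem_B] at hW''
      rw [Finset.filter_filter]
      exact h3_fiber_sum T hq hT hW hS hH hd hsup hW''.1 hW''.2
    rw [Finset.sum_congr rfl hterm, ← Finset.mul_sum]
    have hfr : Module.finrank F W = Module.finrank F H + Module.finrank F S := by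
      rw [← hsup]; exact h3_finrank_sup hd
    have hSpos : 0 < Module.finrank F S := h3_finrank_pos_of_ne_bot hS.2.1
    rw [ih (Module.finrank F H) (by omega) H hH rfl]
    by_cases hH0 : H = ⊥
    · subst hH0
      rw [if_pos rfl, inf_bot_eq]
      simp
    · rw [if_neg hH0]
      ring

/-- **Piece C**: the closed formula `h3_m` is the Moebius function of the lattice of invariant subspaces of a
semisimple endomorphism. -/
theorem hC_star {q : ℕ} (hq : Fintype.card F = q) (hT : T.IsSemisimple) (W : Submodule F V)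
    (hW : W ∈ Module.End.invtSubmodule T) (hne : W ≠ ⊥) :
    ∑ W' ∈ (Set.toFinite (h3_below T W)).toFinset, h3_m q T W' = 0 := by
  have := h3_star_aux T hq hT _ W hW rfl
  rw [if_neg hne] at this
  exact this

theorem hC_m_bot (q : ℕ) : h3_m q T ⊥ = 1 := h3_m_bot T q

end Cfsg.Agent.StGL
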