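import Mathlib
import Cfsg.Agent.StGL.H3_Base

set_option autoImplicit false

/-! # S2425, Piece B1 (helper5): the alternating sum over constrained permutations of chain counts is the
Moebius function.  -/

namespace Cfsg.Agent.StGL

open Polynomial

/-! ### partial sums -/

/-- partial sums as sums over a range. -/
theorem h5_ps_eq_range {j : ℕ} (μ : Fin j → ℕ) (a : Fin j) :
    h3_ps μ a = ∑ i ∈ Finset.range (a.val + 1), (if h : i < j then μ ⟨i, h⟩ else 0) := by
  unfold h3_ps
  rw [Finset.sum_filter]
  have h1 : ∀ i : Fin j, (if i ≤ a then μ i else 0)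
      = (fun k : ℕ => if k ≤ a.val then (if h : k < j then μ ⟨k, h⟩ else 0) else 0) i.val := by
    intro i
    simp only [Fin.is_lt, dite_true, Fin.eta]
    by_cases h : i ≤ a
    · rw [if_pos h, if_pos (Fin.le_def.mp h)]
    · rw [if_neg h, if_neg (fun h' => h (Fin.le_def.mpr h'))]
  rw [Finset.sum_congr rfl (fun i _ => h1 i), Fin.sum_univ_eq_sum_range
    (fun k : ℕ => if k ≤ a.val then (if h : k < j then μ ⟨k, h⟩ else 0) else 0) j]
  rw [← Finset.sum_subset (s₁ := Finset.range (a.val + 1)) (s₂ := Finset.range j)]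
  · refine Finset.sum_congr rfl (fun k hk => ?_)
    rw [Finset.mem_range] at hk
    rw [if_pos (by omega)]
  · intro k hk
    rw [Finset.mem_range] at hk ⊢
    have := a.2
    omega
  · intro k _ hk
    rw [Finset.mem_range] at hk
    rw [if_neg (by omega)]

/-- the total of a composition as a range sum. -/
theorem h5_total_eq_range {t : ℕ} (c : Fin t → ℕ) :
    ∑ i, c i = ∑ i ∈ Finset.range t, (if h : i < t then c ⟨i, h⟩ else 0) := by
  rw [← Fin.sum_univ_eq_sum_range (fun i : ℕ => if h : i < t then c ⟨i, h⟩ else 0) t]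
  refine Finset.sum_congr rfl (fun i _ => ?_)
  simp

theorem h5_pad_apply_lt (j t : ℕ) (c : Fin t → ℕ) (i : Fin (j + 1)) (h : i.val < t) :
    h3_pad j t c i = c ⟨i.val, h⟩ := by
  unfold h3_pad
  rw [dif_pos h]

theorem h5_pad_apply_mid (j t : ℕ) (c : Fin t → ℕ) (i : Fin (j + 1)) (h : ¬ i.val < t) (h' : i.val < j) :
    h3_pad j t c i = 0 := by
  unfold h3_pad
  rw [dif_neg h, if_pos h']

theorem h5_pad_apply_last (j t : ℕ) (c : Fin t → ℕ) (i : Fin (j + 1)) (h : ¬ i.val < t) (h' : ¬ i.val < j) :
    h3_pad j t c i = j + 1 - t := by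
  unfold h3_pad
  rw [dif_neg h, if_neg h']

/-- partial sums of a padded composition, first part. -/
theorem h5_ps_pad_lt (j t : ℕ) (htj : t ≤ j) (c : Fin t → ℕ) (a : Fin (j + 1)) (h : a.val < t) :
    h3_ps (h3_pad j t c) a = h3_ps c ⟨a.val, h⟩ := by
  rw [h5_ps_eq_range, h5_ps_eq_range]
  refine Finset.sum_congr rfl (fun i hi => ?_)
  rw [Finset.mem_range] at hi
  have h1 : i < j + 1 := by omega
  have h2 : i < t := by
    show i < t
    have : i < a.val + 1 := hi
    omega
  rw [dif_pos h1, dif_pos h2, h5_pad_apply_lt j t c ⟨i, h1⟩ h2]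

/-- partial sums of a padded composition, middle part. -/
theorem h5_ps_pad_mid (j t : ℕ) (htj : t ≤ j) (c : Fin t → ℕ) (a : Fin (j + 1)) (h : t ≤ a.val + 1)
    (h' : a.val < j) : h3_ps (h3_pad j t c) a = ∑ i, c i := by
  rw [h5_ps_eq_range, h5_total_eq_range]
  rw [← Finset.sum_subset (s₁ := Finset.range t) (s₂ := Finset.range (a.val + 1))]
  · refine Finset.sum_congr rfl (fun i hi => ?_)
    rw [Finset.mem_range] at hi
    have h1 : i < j + 1 := by omega
    rw [dif_pos h1, dif_pos hi, h5_pad_apply_lt j t c ⟨i, h1⟩ hi]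
  · intro k hk
    rw [Finset.mem_range] at hk ⊢
    omega
  · intro k hk hk'
    rw [Finset.mem_range] at hk hk'
    have h1 : k < j + 1 := by omega
    rw [dif_pos h1, h5_pad_apply_mid j t c ⟨k, h1⟩ hk' (by show k < j; omega)]

/-- partial sums of a padded composition, last position. -/
theorem h5_ps_pad_last (j t : ℕ) (htj : t ≤ j) (c : Fin t → ℕ) (a : Fin (j + 1)) (h : a.val = j) :
    h3_ps (h3_pad j t c) a = (∑ i, c i) + (j + 1 - t) := by
  rw [h5_ps_eq_range, h5_total_eq_range, h, Finset.sum_range_succ]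
  have h1 : j < j + 1 := by omega
  rw [dif_pos h1, h5_pad_apply_last j t c ⟨j, h1⟩ (by show ¬ j < t; omega) (by show ¬ j < j; omega)]
  congr 1
  rw [← Finset.sum_subset (s₁ := Finset.range t) (s₂ := Finset.range j)]
  · refine Finset.sum_congr rfl (fun i hi => ?_)
    rw [Finset.mem_range] at hi
    have h1 : i < j + 1 := by omega
    rw [dif_pos h1, dif_pos hi, h5_pad_apply_lt j t c ⟨i, h1⟩ hi]
  · intro k hk
    rw [Finset.mem_range] at hk ⊢
    omega
  · intro k hk hk'
    rw [Finset.mem_range] at hk hk'
    have h1 : k < j + 1 := by omega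
    rw [dif_pos h1, h5_pad_apply_mid j t c ⟨k, h1⟩ hk' (by show k < j; omega)]

/-- the partial sum at the last index is the total. -/
theorem h5_ps_last {t : ℕ} (c : Fin t → ℕ) (a : Fin t) (h : a.val + 1 = t) : h3_ps c a = ∑ i, c i := by
  rw [h5_ps_eq_range, h5_total_eq_range, h]

/-- for a constrained permutation the composition has total `t`. -/
theorem h5_sum_comp {t : ℕ} (κ : Equiv.Perm (Fin t)) (hκ : h3_Constr κ) : ∑ i, h3_comp κ i = t := by
  have h1 : ∑ i, (h3_comp κ i + (κ i).val) = ∑ i : Fin t, (1 + i.val) := by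
    refine Finset.sum_congr rfl (fun i _ => ?_)
    unfold h3_comp
    exact Nat.sub_add_cancel (hκ i)
  rw [Finset.sum_add_distrib, Finset.sum_add_distrib] at h1
  have h2 : ∑ i, (κ i).val = ∑ i : Fin t, i.val := Equiv.sum_comp κ (fun i : Fin t => i.val)
  rw [h2] at h1
  simp only [Finset.sum_const, Finset.card_univ, Fintype.card_fin, smul_eq_mul, mul_one] at h1
  omega


/-! ### chains for a padded composition -/

section chains

variable {F : Type*} [Field F] {V : Type*} [AddCommGroup V] [Module F V] [Module.Finite F V]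

/-- the member of a chain of length `j + 1` at position `j - 1` (`⊥` if `j = 0`). -/
def h5_mid {j : ℕ} (ch : Fin (j + 1) → Submodule F V) : Submodule F V :=
  if h : 0 < j then ch ⟨j - 1, by omega⟩ else ⊥

/-- restriction of a chain to the first `t` positions. -/
def h5_res {j : ℕ} (t : ℕ) (htj : t ≤ j) (ch : Fin (j + 1) → Submodule F V) : Fin t → Submodule F V :=
  fun a => ch ⟨a.val, by have := a.2; omega⟩

/-- extension of a chain by `W''` in the middle and `W` at the end. -/
def h5_ext (j : ℕ) {t : ℕ} (W'' W : Submodule F V) (c' : Fin t → Submodule F V) :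
    Fin (j + 1) → Submodule F V :=
  fun i => if h : i.val < t then c' ⟨i.val, h⟩ else if i.val < j then W'' else W

theorem h5_chain_props (T : Module.End F V) (j t : ℕ) (htj : t ≤ j) (c : Fin t → ℕ) (hc : ∑ i, c i = t)
    (W : Submodule F V) (hWj : Module.finrank F W = j + 1)
    (ch : Fin (j + 1) → Submodule F V) (hch : ch ∈ h3_chains T (h3_pad j t c) W) :
    h5_mid ch ∈ h3_below T W ∧ Module.finrank F (h5_mid ch) = t ∧
    (∀ i : Fin (j + 1), i.val < j → ch i ≤ h5_mid ch) ∧
    (∀ i : Fin (j + 1), t ≤ i.val → i.val < j → ch i = h5_mid ch) ∧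
    (∀ i : Fin (j + 1), i.val = j → ch i = W) := by
  obtain ⟨hmono, hle, hinv, hfr⟩ := hch
  by_cases hj : 0 < j
  · have hmid : h5_mid ch = ch ⟨j - 1, by omega⟩ := by
      unfold h5_mid
      rw [dif_pos hj]
    have hfm : Module.finrank F (h5_mid ch) = t := by
      rw [hmid, hfr, h5_ps_pad_mid j t htj c ⟨j - 1, by omega⟩ (by show t ≤ j - 1 + 1; omega)
        (by show j - 1 < j; omega), hc]
    refine ⟨⟨by rw [hmid]; exact hinv _, by rw [hmid]; exact hle _⟩, hfm, ?_, ?_, ?_⟩
    · intro i hi
      rw [hmid]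
      apply hmono
      rw [Fin.le_def]
      show i.val ≤ j - 1
      omega
    · intro i hti hi
      have h1 : ch i ≤ h5_mid ch := by
        rw [hmid]
        apply hmono
        rw [Fin.le_def]
        show i.val ≤ j - 1
        omega
      apply Submodule.eq_of_le_of_finrank_eq h1
      rw [hfm, hfr, h5_ps_pad_mid j t htj c i (by omega) hi, hc]
    · intro i hi
      apply Submodule.eq_of_le_of_finrank_eq (hle i)
      rw [hfr, h5_ps_pad_last j t htj c i hi, hc, hWj]
      omega
  · have hj0 : j = 0 := by omega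
    have ht0 : t = 0 := by omega
    have hmid : h5_mid ch = ⊥ := by
      unfold h5_mid
      rw [dif_neg hj]
    refine ⟨⟨by rw [hmid]; exact Module.End.invtSubmodule.bot_mem T, by rw [hmid]; exact bot_le⟩, ?_, ?_, ?_, ?_⟩
    · rw [hmid, finrank_bot, ht0]
    · intro i hi
      omega
    · intro i _ hi
      omega
    · intro i hi
      apply Submodule.eq_of_le_of_finrank_eq (hle i)
      rw [hfr, h5_ps_pad_last j t htj c i hi, hc, hWj]
      omega

theorem h5_res_mem (T : Module.End F V) (j t : ℕ) (htj : t ≤ j) (c : Fin t → ℕ) (hc : ∑ i, c i = t)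
    (W : Submodule F V) (hWj : Module.finrank F W = j + 1)
    (ch : Fin (j + 1) → Submodule F V) (hch : ch ∈ h3_chains T (h3_pad j t c) W) :
    h5_res t htj ch ∈ h3_chains T c (h5_mid ch) := by
  obtain ⟨_, _, h3, _, _⟩ := h5_chain_props T j t htj c hc W hWj ch hch
  obtain ⟨hmono, hle, hinv, hfr⟩ := hch
  refine ⟨?_, ?_, ?_, ?_⟩
  · intro a b hab
    apply hmono
    rw [Fin.le_def]
    exact Fin.le_def.mp hab
  · intro a
    apply h3
    show a.val < j
    have := a.2
    omega
  · intro a
    exact hinv _
  · intro a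
    unfold h5_res
    rw [hfr, h5_ps_pad_lt j t htj c ⟨a.val, by have := a.2; omega⟩ a.2]

theorem h5_ext_mem (T : Module.End F V) (j t : ℕ) (htj : t ≤ j) (c : Fin t → ℕ) (hc : ∑ i, c i = t)
    (W : Submodule F V) (hW : W ∈ Module.End.invtSubmodule T) (hWj : Module.finrank F W = j + 1)
    (W'' : Submodule F V) (hW'' : W'' ∈ h3_below T W) (hfW'' : Module.finrank F W'' = t)
    (c' : Fin t → Submodule F V) (hc' : c' ∈ h3_chains T c W'') :
    h5_ext j W'' W c' ∈ h3_chains T (h3_pad j t c) W := by
  obtain ⟨hmono, hle, hinv, hfr⟩ := hc'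
  refine ⟨?_, ?_, ?_, ?_⟩
  · intro a b hab
    have hab' : a.val ≤ b.val := Fin.le_def.mp hab
    show h5_ext j W'' W c' a ≤ h5_ext j W'' W c' b
    unfold h5_ext
    by_cases ha : a.val < t
    · rw [dif_pos ha]
      by_cases hb : b.val < t
      · rw [dif_pos hb]
        apply hmono
        rw [Fin.le_def]
        exact hab'
      · rw [dif_neg hb]
        by_cases hb' : b.val < j
        · rw [if_pos hb']
          exact hle _
        · rw [if_neg hb']
          exact le_trans (hle _) hW''.2
    · rw [dif_neg ha]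
      have hb : ¬ b.val < t := by omega
      rw [dif_neg hb]
      by_cases ha' : a.val < j
      · rw [if_pos ha']
        by_cases hb' : b.val < j
        · rw [if_pos hb']
        · rw [if_neg hb']
          exact hW''.2
      · rw [if_neg ha']
        have hb' : ¬ b.val < j := by omega
        rw [if_neg hb']
  · intro a
    show h5_ext j W'' W c' a ≤ W
    unfold h5_ext
    by_cases ha : a.val < t
    · rw [dif_pos ha]
      exact le_trans (hle _) hW''.2
    · rw [dif_neg ha]
      by_cases ha' : a.val < j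
      · rw [if_pos ha']
        exact hW''.2
      · rw [if_neg ha']
  · intro a
    show h5_ext j W'' W c' a ∈ Module.End.invtSubmodule T
    unfold h5_ext
    by_cases ha : a.val < t
    · rw [dif_pos ha]
      exact hinv _
    · rw [dif_neg ha]
      by_cases ha' : a.val < j
      · rw [if_pos ha']
        exact hW''.1
      · rw [if_neg ha']
        exact hW
  · intro a
    show Module.finrank F (h5_ext j W'' W c' a) = _
    unfold h5_ext
    by_cases ha : a.val < t
    · rw [dif_pos ha, hfr, h5_ps_pad_lt j t htj c a ha]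
    · rw [dif_neg ha]
      by_cases ha' : a.val < j
      · rw [if_pos ha', hfW'', h5_ps_pad_mid j t htj c a (by omega) ha', hc]
      · rw [if_neg ha', hWj, h5_ps_pad_last j t htj c a (by have := a.2; omega), hc]
        omega

theorem h5_mid_ext (T : Module.End F V) (j t : ℕ) (htj : t ≤ j) (c : Fin t → ℕ) (hc : ∑ i, c i = t)
    (W W'' : Submodule F V) (hfW'' : Module.finrank F W'' = t)
    (c' : Fin t → Submodule F V) (hc' : c' ∈ h3_chains T c W'') :
    h5_mid (h5_ext j W'' W c') = W'' := by
  obtain ⟨hmono, hle, hinv, hfr⟩ := hc'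
  unfold h5_mid
  by_cases hj : 0 < j
  · rw [dif_pos hj]
    unfold h5_ext
    by_cases h1 : j - 1 < t
    · rw [dif_pos h1]
      apply Submodule.eq_of_le_of_finrank_eq (hle _)
      rw [hfr, hfW'', h5_ps_last c ⟨j - 1, h1⟩ (by show j - 1 + 1 = t; omega), hc]
    · rw [dif_neg h1, if_pos (by show j - 1 < j; omega)]
  · rw [dif_neg hj]
    have ht0 : t = 0 := by omega
    rw [ht0] at hfW''
    exact (Submodule.finrank_eq_zero.mp hfW'').symm

theorem h5_ext_res (T : Module.End F V) (j t : ℕ) (htj : t ≤ j) (c : Fin t → ℕ) (hc : ∑ i, c i = t)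
    (W : Submodule F V) (hWj : Module.finrank F W = j + 1)
    (ch : Fin (j + 1) → Submodule F V) (hch : ch ∈ h3_chains T (h3_pad j t c) W) :
    h5_ext j (h5_mid ch) W (h5_res t htj ch) = ch := by
  obtain ⟨_, _, _, h4, h5⟩ := h5_chain_props T j t htj c hc W hWj ch hch
  funext i
  unfold h5_ext
  by_cases hi : i.val < t
  · rw [dif_pos hi]
    rfl
  · rw [dif_neg hi]
    by_cases hi' : i.val < j
    · rw [if_pos hi', h4 i (by omega) hi']
    · rw [if_neg hi', h5 i (by have := i.2; omega)]

theorem h5_res_ext (j t : ℕ) (htj : t ≤ j) (W W'' : Submodule F V) (c' : Fin t → Submodule F V) :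
    h5_res t htj (h5_ext j W'' W c') = c' := by
  funext a
  unfold h5_res h5_ext
  rw [dif_pos a.2]

/-- chains for the padded composition are counted through their member at position `j - 1`. -/
theorem h5_card_chains_pad [Finite (Submodule F V)] (T : Module.End F V) (j t : ℕ) (htj : t ≤ j)
    (c : Fin t → ℕ) (hc : ∑ i, c i = t)
    (W : Submodule F V) (hW : W ∈ Module.End.invtSubmodule T) (hWj : Module.finrank F W = j + 1) :
    Nat.card (h3_chains T (h3_pad j t c) W) = ∑ W'' ∈ (Set.toFinite (h3_below T W)).toFinset,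
      if Module.finrank F W'' = t then Nat.card (h3_chains T c W'') else 0 := by
  classical
  rw [Nat.card_coe_set_eq, Set.ncard_eq_toFinset_card (h3_chains T (h3_pad j t c) W)]
  rw [Finset.card_eq_sum_card_fiberwise (f := h5_mid) (t := (Set.toFinite (h3_below T W)).toFinset)]
  · refine Finset.sum_congr rfl (fun W'' hW'' => ?_)
    rw [Set.Finite.mem_toFinset] at hW''
    by_cases hf : Module.finrank F W'' = t
    · rw [if_pos hf, Nat.card_coe_set_eq, Set.ncard_eq_toFinset_card (h3_chains T c W'')]
      refine Finset.card_nbij' (h5_res t htj) (h5_ext j W'' W) ?_ ?_ ?_ ?_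
      · intro ch hch
        rw [Finset.mem_coe, Finset.mem_filter, Set.Finite.mem_toFinset] at hch
        rw [Finset.mem_coe, Set.Finite.mem_toFinset]
        obtain ⟨hch1, hch2⟩ := hch
        rw [← hch2]
        exact h5_res_mem T j t htj c hc W hWj ch hch1
      · intro c' hc'
        rw [Finset.mem_coe, Set.Finite.mem_toFinset] at hc'
        rw [Finset.mem_coe, Finset.mem_filter, Set.Finite.mem_toFinset]
        exact ⟨h5_ext_mem T j t htj c hc W hW hWj W'' hW'' hf c' hc',
          h5_mid_ext T j t htj c hc W W'' hf c' hc'⟩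
      · intro ch hch
        rw [Finset.mem_coe, Finset.mem_filter, Set.Finite.mem_toFinset] at hch
        obtain ⟨hch1, hch2⟩ := hch
        show h5_ext j W'' W (h5_res t htj ch) = ch
        rw [← hch2]
        exact h5_ext_res T j t htj c hc W hWj ch hch1
      · intro c' _
        exact h5_res_ext j t htj W W'' c'
    · rw [if_neg hf, Finset.card_eq_zero, Finset.filter_eq_empty_iff]
      intro ch hch hmid
      rw [Set.Finite.mem_toFinset] at hch
      exact hf (hmid ▸ (h5_chain_props T j t htj c hc W hWj ch hch).2.1)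
  · intro ch hch
    rw [Finset.mem_coe, Set.Finite.mem_toFinset] at hch ⊢
    exact (h5_chain_props T j t htj c hc W hWj ch hch).1

end chains

/-! ### the alternating sum -/

section altsum

variable {F : Type*} [Field F] {V : Type*} [AddCommGroup V] [Module F V] [Module.Finite F V]

/-- chains of length `0`. -/
theorem h5_card_chains_zero (T : Module.End F V) (μ : Fin 0 → ℕ) (W : Submodule F V) :
    Nat.card (h3_chains T μ W) = 1 := by
  rw [Nat.card_coe_set_eq, Set.ncard_eq_one]
  refine ⟨fun a => a.elim0, ?_⟩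
  ext ch
  constructor
  · intro _
    rw [Set.mem_singleton_iff]
    funext a
    exact a.elim0
  · intro _
    exact ⟨fun a => a.elim0, fun a => a.elim0, fun a => a.elim0, fun a => a.elim0⟩

/-- Piece B1 with Piece B0 (for `R = ℤ`) as a hypothesis. -/
theorem h5_alt_sum_of_constr [Finite (Submodule F V)] (T : Module.End F V) (m : Submodule F V → ℤ)
    (hm0 : m ⊥ = 1)
    (hstar : ∀ W ∈ Module.End.invtSubmodule T, W ≠ ⊥ →
      ∑ W' ∈ (Set.toFinite (h3_below T W)).toFinset, m W' = 0)
    (hB0 : ∀ (j : ℕ) (G : (Fin (j + 1) → ℕ) → ℤ),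
      ∑ κ : Equiv.Perm (Fin (j + 1)),
        (if h3_Constr κ then ((Equiv.Perm.sign κ : ℤˣ) : ℤ) • G (h3_comp κ) else 0) =
      ∑ t ∈ Finset.range (j + 1), ∑ κ' : Equiv.Perm (Fin t),
        (if h3_Constr κ' then ((-1 : ℤ) ^ (j - t) * ((Equiv.Perm.sign κ' : ℤˣ) : ℤ)) •
          G (h3_pad j t (h3_comp κ')) else 0)) :
    ∀ (j : ℕ) (W : Submodule F V), W ∈ Module.End.invtSubmodule T → Module.finrank F W = j →
      ∑ κ : Equiv.Perm (Fin j), (if h3_Constr κ then ((Equiv.Perm.sign κ : ℤˣ) : ℤ) *
          (Nat.card (h3_chains T (h3_comp κ) W) : ℤ) else 0) = (-1) ^ j * m W := by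
  classical
  intro j
  induction j using Nat.strong_induction_on with
  | _ j ih =>
    intro W hW hWj
    rcases j with _ | j
    · have hW0 : W = ⊥ := Submodule.finrank_eq_zero.mp hWj
      rw [Fintype.sum_eq_single (1 : Equiv.Perm (Fin 0))
        (fun κ hκ => absurd (Subsingleton.elim κ 1) hκ)]
      have hc1 : h3_Constr (1 : Equiv.Perm (Fin 0)) := fun i => i.elim0
      rw [if_pos hc1, h5_card_chains_zero, Equiv.Perm.sign_one, hW0, hm0]
      norm_num
    · have hWne : W ≠ ⊥ := by
        intro h
        rw [h, finrank_bot] at hWj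
        omega
      have key := hB0 j (fun μ => (Nat.card (h3_chains T μ W) : ℤ))
      simp only [smul_eq_mul] at key
      rw [key]
      have step : ∀ t ∈ Finset.range (j + 1), ∑ κ' : Equiv.Perm (Fin t),
          (if h3_Constr κ' then ((-1 : ℤ) ^ (j - t) * ((Equiv.Perm.sign κ' : ℤˣ) : ℤ)) *
            (Nat.card (h3_chains T (h3_pad j t (h3_comp κ')) W) : ℤ) else 0)
          = (-1 : ℤ) ^ j * ∑ W'' ∈ (Set.toFinite (h3_below T W)).toFinset,
              (if Module.finrank F W'' = t then m W'' else 0) := by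
        intro t ht
        rw [Finset.mem_range] at ht
        have htj : t ≤ j := by omega
        have h1 : ∀ κ' : Equiv.Perm (Fin t),
            (if h3_Constr κ' then ((-1 : ℤ) ^ (j - t) * ((Equiv.Perm.sign κ' : ℤˣ) : ℤ)) *
              (Nat.card (h3_chains T (h3_pad j t (h3_comp κ')) W) : ℤ) else 0)
            = ∑ W'' ∈ (Set.toFinite (h3_below T W)).toFinset,
                (-1 : ℤ) ^ (j - t) * (if Module.finrank F W'' = t then
                  (if h3_Constr κ' then ((Equiv.Perm.sign κ' : ℤˣ) : ℤ) *
                    (Nat.card (h3_chains T (h3_comp κ') W'') : ℤ) else 0) else 0) := by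
          intro κ'
          by_cases hκ : h3_Constr κ'
          · rw [if_pos hκ, h5_card_chains_pad T j t htj _ (h5_sum_comp κ' hκ) W hW hWj]
            rw [Nat.cast_sum, Finset.mul_sum]
            refine Finset.sum_congr rfl (fun W'' _ => ?_)
            by_cases hf : Module.finrank F W'' = t
            · rw [if_pos hf, if_pos hf, if_pos hκ, mul_assoc]
            · rw [if_neg hf, if_neg hf, Nat.cast_zero, mul_zero, mul_zero]
          · rw [if_neg hκ]
            symm
            apply Finset.sum_eq_zero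
            intro W'' _
            rw [if_neg hκ, ite_self, mul_zero]
        rw [Finset.sum_congr rfl (fun κ' _ => h1 κ'), Finset.sum_comm, Finset.mul_sum]
        refine Finset.sum_congr rfl (fun W'' hW'' => ?_)
        rw [Set.Finite.mem_toFinset] at hW''
        rw [← Finset.mul_sum]
        by_cases hf : Module.finrank F W'' = t
        · simp only [if_pos hf]
          rw [ih t (by omega) W'' hW''.1 hf, ← mul_assoc, ← pow_add, Nat.sub_add_cancel htj]
        · simp only [if_neg hf]
          rw [Finset.sum_const_zero, mul_zero, mul_zero]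
      rw [Finset.sum_congr rfl step, ← Finset.mul_sum, Finset.sum_comm]
      have h3 : ∀ W'' ∈ (Set.toFinite (h3_below T W)).toFinset,
          ∑ t ∈ Finset.range (j + 1), (if Module.finrank F W'' = t then m W'' else 0)
          = m W'' - (if W'' = W then m W'' else 0) := by
        intro W'' hW''
        rw [Set.Finite.mem_toFinset] at hW''
        rw [Finset.sum_ite_eq (Finset.range (j + 1)) (Module.finrank F W'') (fun _ => m W'')]
        by_cases hWW : W'' = W
        · rw [if_pos hWW, if_neg, sub_self]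
          rw [Finset.mem_range, hWW, hWj]
          omega
        · rw [if_neg hWW, sub_zero, if_pos]
          rw [Finset.mem_range]
          have h4 : Module.finrank F W'' ≤ j + 1 := hWj ▸ Submodule.finrank_mono hW''.2
          have h5 : Module.finrank F W'' ≠ j + 1 := fun h =>
            hWW (Submodule.eq_of_le_of_finrank_eq hW''.2 (h.trans hWj.symm))
          omega
      rw [Finset.sum_congr rfl h3, Finset.sum_sub_distrib, hstar W hW hWne, Finset.sum_ite_eq',
        if_pos]
      · ring
      · rw [Set.Finite.mem_toFinset]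
        exact ⟨hW, le_refl W⟩

end altsum

end Cfsg.Agent.StGL
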