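import Mathlib
import Cfsg.Agent.StGL.H3_Base

set_option autoImplicit false

/-!
S2425, piece B0 (helper6): the structure of the permutations `κ` of `Fin (j+1)` with `κ i ≤ i + 1`.
Each such `κ` is determined by `t = κ j` and a constrained permutation of `Fin t`; we prove the resulting
identity of alternating sums by induction on `j`, splitting off the last point with
`Equiv.Perm.decomposeOption`.
-/

namespace Cfsg.Agent.StGL

open Equiv

/-- decomposition of a permutation of `Fin (n+1)` by the image of the last point. -/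
def h6_D (n : ℕ) : Perm (Fin (n + 1)) ≃ Option (Fin n) × Perm (Fin n) :=
  (finSuccEquivLast.permCongr).trans Equiv.Perm.decomposeOption

/-- the permutation of `Fin (n+1)` with `last ↦ a` built from `e : Perm (Fin n)`. -/
def h6_K {n : ℕ} (a : Option (Fin n)) (e : Perm (Fin n)) : Perm (Fin (n + 1)) :=
  (h6_D n).symm (a, e)

theorem h6_K_apply {n : ℕ} (a : Option (Fin n)) (e : Perm (Fin n)) (x : Fin (n + 1)) :
    h6_K a e x = finSuccEquivLast.symm ((swap none a * e.optionCongr) (finSuccEquivLast x)) := rfl

theorem h6_K_last {n : ℕ} (a : Option (Fin n)) (e : Perm (Fin n)) :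
    h6_K a e (Fin.last n) = finSuccEquivLast.symm a := by
  rw [h6_K_apply, finSuccEquivLast_last, Perm.mul_apply, Equiv.optionCongr_apply, Option.map_none,
    swap_apply_left]

theorem h6_K_castSucc {n : ℕ} (a : Option (Fin n)) (e : Perm (Fin n)) (i : Fin n) :
    h6_K a e (Fin.castSucc i) = if some (e i) = a then Fin.last n else Fin.castSucc (e i) := by
  rw [h6_K_apply, finSuccEquivLast_castSucc, Perm.mul_apply, Equiv.optionCongr_apply,
    Option.map_some]
  by_cases h : some (e i) = a
  · rw [if_pos h, ← h, swap_apply_right, finSuccEquivLast_symm_none]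
  · rw [if_neg h, swap_apply_of_ne_of_ne (by simp) h, finSuccEquivLast_symm_some]

theorem h6_constr_K {j : ℕ} (a : Option (Fin (j + 1))) (e : Perm (Fin (j + 1))) :
    h3_Constr (h6_K a e) ↔ h3_Constr e ∧ (a = none ∨ a = some (e (Fin.last j))) := by
  constructor
  · intro hK
    refine ⟨fun i => ?_, ?_⟩
    · have h1 := hK (Fin.castSucc i)
      rw [h6_K_castSucc] at h1
      by_cases h : some (e i) = a
      · rw [if_pos h] at h1
        simp only [Fin.val_last, Fin.val_castSucc] at h1
        have := (e i).is_lt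
        omega
      · rw [if_neg h] at h1
        simpa using h1
    · rcases a with _ | t
      · exact Or.inl rfl
      · right
        have h1 := hK (Fin.castSucc (e.symm t))
        rw [h6_K_castSucc, Equiv.apply_symm_apply, if_pos rfl] at h1
        simp only [Fin.val_last, Fin.val_castSucc] at h1
        have h2 := (e.symm t).is_lt
        have h3 : e.symm t = Fin.last j := by
          apply Fin.ext
          simp only [Fin.val_last]
          omega
        rw [← h3, Equiv.apply_symm_apply]
  · rintro ⟨he, ha⟩ x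
    induction x using Fin.lastCases with
    | last =>
      have := (h6_K a e (Fin.last (j + 1))).is_lt
      simp only [Fin.val_last]
      omega
    | cast i =>
      rw [h6_K_castSucc]
      by_cases h : some (e i) = a
      · rw [if_pos h]
        rcases ha with ha | ha
        · rw [ha] at h; exact absurd h (by simp)
        · rw [ha] at h
          have h3 : i = Fin.last j := e.injective (Option.some.inj h)
          rw [h3]
          simp
      · rw [if_neg h]
        simpa using he i

theorem h6_sign_K_none {n : ℕ} (e : Perm (Fin n)) : Perm.sign (h6_K none e) = Perm.sign e := by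
  show Perm.sign ((finSuccEquivLast.permCongr).symm (Equiv.Perm.decomposeOption.symm (none, e))) = _
  rw [Equiv.permCongr_symm, Perm.sign_permCongr, Equiv.Perm.decomposeOption_symm_sign]

theorem h6_sign_K_some {n : ℕ} (t : Fin n) (e : Perm (Fin n)) :
    Perm.sign (h6_K (some t) e) = - Perm.sign e := by
  show Perm.sign ((finSuccEquivLast.permCongr).symm (Equiv.Perm.decomposeOption.symm (some t, e))) = _
  rw [Equiv.permCongr_symm, Perm.sign_permCongr, Equiv.Perm.decomposeOption_symm_apply,
    Perm.sign_mul, Perm.sign_swap (by simp), Equiv.optionCongr_sign, neg_one_mul]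

theorem h6_comp_K_none {j : ℕ} (e : Perm (Fin (j + 1))) :
    h3_comp (h6_K none e) = h3_pad (j + 1) (j + 1) (h3_comp e) := by
  funext x
  induction x using Fin.lastCases with
  | last =>
    unfold h3_comp h3_pad
    rw [h6_K_last, finSuccEquivLast_symm_none]
    simp
  | cast i =>
    unfold h3_comp h3_pad
    rw [h6_K_castSucc, if_neg (by simp)]
    simp only [Fin.val_castSucc]
    rw [dif_pos i.is_lt]

/-- the effect on compositions of moving the last point one step up. -/
def h6_T {j : ℕ} (c : Fin (j + 1) → ℕ) : Fin (j + 2) → ℕ :=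
  fun x => if h : x.val < j then c ⟨x.val, by omega⟩ else if x.val = j then 0 else c (Fin.last j) + 1

theorem h6_comp_K_some {j : ℕ} (e : Perm (Fin (j + 1))) :
    h3_comp (h6_K (some (e (Fin.last j))) e) = h6_T (h3_comp e) := by
  funext x
  induction x using Fin.lastCases with
  | last =>
    unfold h3_comp h6_T
    rw [h6_K_last, finSuccEquivLast_symm_some]
    simp only [Fin.val_last, Fin.val_castSucc]
    have := (e (Fin.last j)).is_lt
    rw [dif_neg (by omega), if_neg (by omega)]
    omega
  | cast i =>
    unfold h3_comp h6_T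
    rw [h6_K_castSucc]
    by_cases h : i = Fin.last j
    · rw [h, if_pos rfl]
      simp only [Fin.val_last, Fin.val_castSucc]
      rw [dif_neg (by omega), if_pos trivial]
      omega
    · have h1 : ¬ some (e i) = some (e (Fin.last j)) := fun h' => h (e.injective (Option.some.inj h'))
      rw [if_neg h1]
      simp only [Fin.val_castSucc]
      have h2 : i.val < j := by
        have := i.is_lt
        have h3 : i.val ≠ j := fun h' => h (Fin.ext (by simp [h']))
        omega
      rw [dif_pos h2]

theorem h6_T_pad {j t : ℕ} (ht : t ≤ j) (c : Fin t → ℕ) :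
    h6_T (h3_pad j t c) = h3_pad (j + 1) t c := by
  funext x
  unfold h6_T h3_pad
  simp only [Fin.val_last]
  have hx := x.is_lt
  by_cases h1 : x.val < j
  · rw [dif_pos h1]
    by_cases h2 : x.val < t
    · rw [dif_pos h2, dif_pos h2]
    · rw [dif_neg h2, dif_neg h2, if_pos h1, if_pos (by omega)]
  · rw [dif_neg h1]
    by_cases h3 : x.val = j
    · rw [if_pos h3, dif_neg (by omega), if_pos (by omega)]
    · rw [if_neg h3, dif_neg (by omega), if_neg (by omega), dif_neg (by omega), if_neg (by omega)]
      omega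

theorem h6_inner {R : Type*} [AddCommGroup R] {j : ℕ} (G : (Fin (j + 2) → ℕ) → R)
    (e : Perm (Fin (j + 1))) :
    ∑ a : Option (Fin (j + 1)),
        (if h3_Constr (h6_K a e) then ((Perm.sign (h6_K a e) : ℤˣ) : ℤ) • G (h3_comp (h6_K a e))
          else 0) =
      (if h3_Constr e then ((Perm.sign e : ℤˣ) : ℤ) • G (h3_pad (j + 1) (j + 1) (h3_comp e)) else 0) -
        (if h3_Constr e then ((Perm.sign e : ℤˣ) : ℤ) • G (h6_T (h3_comp e)) else 0) := by
  by_cases hC : h3_Constr e
  · rw [if_pos hC, if_pos hC, Fintype.sum_option]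
    rw [if_pos ((h6_constr_K none e).mpr ⟨hC, Or.inl rfl⟩), h6_sign_K_none, h6_comp_K_none]
    have h1 : ∀ t : Fin (j + 1),
        (if h3_Constr (h6_K (some t) e) then
            ((Perm.sign (h6_K (some t) e) : ℤˣ) : ℤ) • G (h3_comp (h6_K (some t) e)) else 0) =
          if t = e (Fin.last j) then -(((Perm.sign e : ℤˣ) : ℤ) • G (h6_T (h3_comp e))) else 0 := by
      intro t
      by_cases ht : t = e (Fin.last j)
      · rw [if_pos ht, if_pos ((h6_constr_K (some t) e).mpr ⟨hC, Or.inr (by rw [ht])⟩),
          h6_sign_K_some, ht, h6_comp_K_some, Units.val_neg, neg_smul]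
      · rw [if_neg ht, if_neg]
        intro h
        rcases ((h6_constr_K (some t) e).mp h).2 with h' | h'
        · exact absurd h' (by simp)
        · exact ht (Option.some.inj h')
    rw [Finset.sum_congr rfl fun t _ => h1 t, Finset.sum_ite_eq' Finset.univ (e (Fin.last j)),
      if_pos (Finset.mem_univ _), sub_eq_add_neg]
  · rw [if_neg hC, if_neg hC, sub_zero]
    apply Finset.sum_eq_zero
    intro a _
    rw [if_neg]
    intro h
    exact hC ((h6_constr_K a e).mp h).1

theorem h6_base {R : Type*} [AddCommGroup R] (G : (Fin 1 → ℕ) → R) :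
    ∑ κ : Equiv.Perm (Fin 1), (if h3_Constr κ then ((Equiv.Perm.sign κ : ℤˣ) : ℤ) • G (h3_comp κ) else 0) =
    ∑ t ∈ Finset.range 1, ∑ κ' : Equiv.Perm (Fin t),
      (if h3_Constr κ' then ((-1 : ℤ) ^ (0 - t) * ((Equiv.Perm.sign κ' : ℤˣ) : ℤ)) • G (h3_pad 0 t (h3_comp κ')) else 0) := by
  rw [Finset.sum_range_one, Fintype.sum_subsingleton _ (1 : Perm (Fin 1)),
    Fintype.sum_subsingleton _ (1 : Perm (Fin 0))]
  have hc1 : h3_Constr (1 : Perm (Fin 1)) := fun i => by
    rw [Perm.one_apply]
    omega
  have hc0 : h3_Constr (1 : Perm (Fin 0)) := fun i => i.elim0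
  rw [if_pos hc1, if_pos hc0, Perm.sign_one, Perm.sign_one]
  have hcomp : h3_comp (1 : Perm (Fin 1)) = h3_pad 0 0 (h3_comp (1 : Perm (Fin 0))) := by
    funext i
    unfold h3_comp h3_pad
    have h1 := i.is_lt
    rw [dif_neg (by omega), if_neg (by omega), Perm.one_apply]
    omega
  rw [hcomp]
  simp

theorem hB0_constr_sum {R : Type*} [AddCommGroup R] (j : ℕ) (G : (Fin (j + 1) → ℕ) → R) :
    ∑ κ : Equiv.Perm (Fin (j + 1)), (if h3_Constr κ then ((Equiv.Perm.sign κ : ℤˣ) : ℤ) • G (h3_comp κ) else 0) =
    ∑ t ∈ Finset.range (j + 1), ∑ κ' : Equiv.Perm (Fin t),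
      (if h3_Constr κ' then ((-1 : ℤ) ^ (j - t) * ((Equiv.Perm.sign κ' : ℤˣ) : ℤ)) • G (h3_pad j t (h3_comp κ')) else 0) := by
  induction j with
  | zero => exact h6_base G
  | succ j ih =>
    -- left-hand side
    have hL : ∑ κ : Perm (Fin (j + 1 + 1)),
        (if h3_Constr κ then ((Perm.sign κ : ℤˣ) : ℤ) • G (h3_comp κ) else 0) =
        ∑ e : Perm (Fin (j + 1)),
          (if h3_Constr e then ((Perm.sign e : ℤˣ) : ℤ) • G (h3_pad (j + 1) (j + 1) (h3_comp e)) else 0) -
        ∑ e : Perm (Fin (j + 1)),
          (if h3_Constr e then ((Perm.sign e : ℤˣ) : ℤ) • G (h6_T (h3_comp e)) else 0) := by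
      rw [← Finset.sum_sub_distrib]
      rw [← Equiv.sum_comp (h6_D (j + 1)).symm, Fintype.sum_prod_type, Finset.sum_comm]
      refine Finset.sum_congr rfl fun e _ => ?_
      exact h6_inner G e
    rw [hL]
    conv_rhs => rw [Finset.sum_range_succ]
    -- the top term
    have htop : ∑ κ' : Perm (Fin (j + 1)),
        (if h3_Constr κ' then ((-1 : ℤ) ^ (j + 1 - (j + 1)) * ((Perm.sign κ' : ℤˣ) : ℤ)) •
          G (h3_pad (j + 1) (j + 1) (h3_comp κ')) else 0) =
        ∑ e : Perm (Fin (j + 1)),
          (if h3_Constr e then ((Perm.sign e : ℤˣ) : ℤ) • G (h3_pad (j + 1) (j + 1) (h3_comp e)) else 0) := by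
      refine Finset.sum_congr rfl fun e _ => ?_
      rw [Nat.sub_self, pow_zero, one_mul]
    rw [htop]
    -- the lower terms
    have hlow : ∑ t ∈ Finset.range (j + 1), ∑ κ' : Perm (Fin t),
        (if h3_Constr κ' then ((-1 : ℤ) ^ (j + 1 - t) * ((Perm.sign κ' : ℤˣ) : ℤ)) •
          G (h3_pad (j + 1) t (h3_comp κ')) else 0) =
        - ∑ t ∈ Finset.range (j + 1), ∑ κ' : Perm (Fin t),
          (if h3_Constr κ' then ((-1 : ℤ) ^ (j - t) * ((Perm.sign κ' : ℤˣ) : ℤ)) •
            G (h6_T (h3_pad j t (h3_comp κ'))) else 0) := by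
      rw [← Finset.sum_neg_distrib]
      refine Finset.sum_congr rfl fun t ht => ?_
      rw [← Finset.sum_neg_distrib]
      refine Finset.sum_congr rfl fun κ' _ => ?_
      have htj : t ≤ j := by
        have := Finset.mem_range.mp ht
        omega
      by_cases hC : h3_Constr κ'
      · rw [if_pos hC, if_pos hC, h6_T_pad htj, ← neg_smul]
        congr 1
        have : j + 1 - t = (j - t) + 1 := by omega
        rw [this, pow_succ]
        ring
      · rw [if_neg hC, if_neg hC, neg_zero]
    rw [hlow, ih (fun c => G (h6_T c))]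
    abel

end Cfsg.Agent.StGL
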