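import Mathlib
import Cfsg.Agent.StGL.H3_Star
import Cfsg.Agent.StGL.H5_AltSum
import Cfsg.Agent.StGL.H6_ConstrSum

set_option autoImplicit false
set_option linter.unusedSectionVars false

/-! # S2425, Piece D: assembly (helper3). -/

namespace Cfsg.Agent.StGL

open Polynomial Module UniqueFactorizationMonoid

variable {F : Type*} [Field F] [Fintype F] [DecidableEq F] {n : ℕ}

/-- an element of order prime to the characteristic acts semisimply -/
theorem h3_T_semisimple (p : ℕ) [Fact p.Prime] [CharP F p] (x : GL (Fin n) F) (hx : (orderOf x).Coprime p) :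
    (h3_T x).IsSemisimple := by
  set N := orderOf x with hN
  have hNpos : 0 < N := orderOf_pos x
  have hpow : (h3_T x) ^ N = 1 := by
    unfold h3_T
    rw [← Matrix.toLin'_pow]
    have h1 : ((x : Matrix (Fin n) (Fin n) F)) ^ N = 1 := by
      have h2 : x ^ N = 1 := pow_orderOf_eq_one x
      have h3 := congrArg (fun y : GL (Fin n) F => (y : Matrix (Fin n) (Fin n) F)) h2
      simpa using h3
    rw [h1, Matrix.toLin'_one]
    rfl
  have hNF : (N : F) ≠ 0 := by
    intro h0
    have hdvd : p ∣ N := (CharP.cast_eq_zero_iff F p N).mp h0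
    have hp : p.Prime := Fact.out
    have h1 : p ∣ Nat.gcd N p := Nat.dvd_gcd hdvd dvd_rfl
    rw [Nat.Coprime] at hx
    rw [hx] at h1
    exact hp.one_lt.ne' (Nat.dvd_one.mp h1)
  have hsq : Squarefree (X ^ N - 1 : F[X]) := (X_pow_sub_one_separable_iff.mpr hNF).squarefree
  apply Module.End.isSemisimple_of_squarefree_aeval_eq_zero hsq
  rw [map_sub, map_pow, aeval_X, map_one, hpow, sub_self]

theorem h3_top_mem (T : Module.End F (Fin n → F)) : (⊤ : Submodule F (Fin n → F)) ∈ T.invtSubmodule :=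
  Module.End.invtSubmodule.top_mem T

theorem h3_cp_top (T : Module.End F (Fin n → F)) : h3_cp T ⊤ = T.charpoly := by
  rw [h3_cp_of_mem T (h3_top_mem T)]
  have hconj : (Submodule.topEquiv : (⊤ : Submodule F (Fin n → F)) ≃ₗ[F] (Fin n → F)).conj
      (h3_res T (h3_top_mem T)) = T := by
    apply LinearMap.ext
    intro v
    rw [LinearEquiv.conj_apply_apply]
    rfl
  conv_rhs => rw [← hconj]
  rw [LinearEquiv.charpoly_conj]

theorem h3_m_top (q : ℕ) (x : GL (Fin n) F) :
    h3_m q (h3_T x) ⊤ = h3_phi q (x : Matrix (Fin n) (Fin n) F).charpoly := by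
  unfold h3_m
  rw [h3_cp_top]
  unfold h3_T
  rw [Matrix.charpoly_toLin']

/-- the Steinberg alternating sum, given Piece A as a hypothesis -/
theorem h3_unip_eq {q : ℕ} (hq : Fintype.card F = q) (p : ℕ) [Fact p.Prime] [CharP F p] (x : GL (Fin n) F)
    (hx : (orderOf x).Coprime p)
    (hA : ∀ μ : Fin n → ℕ, ∑ i, μ i = n →
      Cfsg.fixedPointCharacter (Cfsg.parabolicGL n F μ) x =
        ((Nat.card (h3_chains (h3_T x) μ ⊤) : ℕ) : ℂ)) :
    Cfsg.unipotentCharacterGL n F (fun _ => 1) x =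
      (((-1 : ℤ) ^ n * h3_phi q (x : Matrix (Fin n) (Fin n) F).charpoly : ℤ) : ℂ) := by
  have hT := h3_T_semisimple p x hx
  have : Finite (Submodule F (Fin n → F)) := inferInstance
  have hB := h5_alt_sum_of_constr (h3_T x) (h3_m q (h3_T x)) (hC_m_bot (h3_T x) q)
    (fun W hW hne => hC_star (h3_T x) hq hT W hW hne) (fun j G => hB0_constr_sum j G) n ⊤
    (h3_top_mem _) (by rw [finrank_top, Module.finrank_fin_fun])
  rw [h3_m_top] at hB
  rw [← hB]
  unfold Cfsg.unipotentCharacterGL
  rw [Int.cast_sum]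
  apply Finset.sum_congr rfl
  intro κ _
  by_cases hκ : h3_Constr κ
  · rw [if_pos hκ, if_pos (show ∀ i : Fin n, (κ i).val ≤ (fun _ => 1) i + i.val from hκ)]
    have hsum : ∑ i, h3_comp κ i = n := h5_sum_comp κ hκ
    have := hA (h3_comp κ) hsum
    change _ * Cfsg.fixedPointCharacter (Cfsg.parabolicGL n F (h3_comp κ)) x = _
    rw [this]
    push_cast
    rfl
  · rw [if_neg hκ, if_neg (show ¬ ∀ i : Fin n, (κ i).val ≤ (fun _ => 1) i + i.val from hκ)]
    simp

end Cfsg.Agent.StGL
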