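import Mathlib
import Cfsg.Agent.StGL.H3_Phi

set_option autoImplicit false
set_option linter.unusedSectionVars false

/-! # S2425: `(-1)^n · h3_phi q P` in the shape of the statement (helper3). -/

namespace Cfsg.Agent.StGL

open Polynomial UniqueFactorizationMonoid

variable {F : Type*} [Field F] [DecidableEq F]

theorem h3_natDegree_eq_sum {P : F[X]} (hP : P.Monic) :
    P.natDegree = ∑ f ∈ (normalizedFactors P).toFinset, (normalizedFactors P).count f * f.natDegree := by
  have h0 : (0 : F[X]) ∉ normalizedFactors P := fun h => (irreducible_of_normalized_factor 0 h).ne_zero rfl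
  have h1 : (normalizedFactors P).prod = P := by
    rw [prod_normalizedFactors_eq hP.ne_zero, hP.normalize_eq_self]
  conv_lhs => rw [← h1, natDegree_multiset_prod _ h0]
  rw [Finset.sum_multiset_map_count]
  simp [smul_eq_mul]

theorem h3_neg_one_pow_formula {P : F[X]} (hP : P.Monic) (q : ℕ) :
    (((-1 : ℤ) ^ P.natDegree * h3_phi q P : ℤ) : ℂ) =
      ∏ f ∈ (normalizedFactors P).toFinset,
        (-1 : ℂ) ^ ((f.natDegree - 1) * (normalizedFactors P).count f) *
          (q : ℂ) ^ (f.natDegree * (normalizedFactors P).count f * ((normalizedFactors P).count f - 1) / 2) := by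
  have hdeg := h3_natDegree_eq_sum hP
  conv_lhs => rw [hdeg]
  unfold h3_phi
  rw [← Finset.prod_pow_eq_pow_sum, ← Finset.prod_mul_distrib]
  push_cast
  apply Finset.prod_congr rfl
  intro f hf
  have hfirr : Irreducible f := irreducible_of_normalized_factor f (Multiset.mem_toFinset.mp hf)
  have hd : 1 ≤ f.natDegree := Polynomial.natDegree_pos_iff_degree_pos.mpr (Polynomial.degree_pos_of_irreducible hfirr)
  generalize (normalizedFactors P).count f = m
  generalize f.natDegree = d at hd ⊢
  have hsign : ((-1 : ℂ)) ^ (m * d) * (-1 : ℂ) ^ m = (-1 : ℂ) ^ ((d - 1) * m) := by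
    obtain ⟨e, rfl⟩ : ∃ e, d = e + 1 := ⟨d - 1, by omega⟩
    rw [Nat.add_sub_cancel, ← pow_add]
    have : m * (e + 1) + m = e * m + 2 * m := by ring
    rw [this, pow_add, pow_mul (-1 : ℂ) 2 m]
    norm_num
  have hexp : d * m.choose 2 = d * m * (m - 1) / 2 := by
    rw [Nat.choose_two_right, mul_assoc]
    have h2 : 2 ∣ m * (m - 1) := by
      rcases Nat.even_or_odd m with h | h
      · exact (h.mul_right _).two_dvd
      · rcases m with _ | m'
        · simp
        · have : Even (m' + 1 - 1) := by
            rw [Nat.add_sub_cancel]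
            rcases h with ⟨r, hr⟩
            exact ⟨r, by omega⟩
          exact (this.mul_left _).two_dvd
    exact (Nat.mul_div_assoc d h2).symm
  rw [← hexp, ← hsign]
  ring

end Cfsg.Agent.StGL
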