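import Mathlib
import Cfsg.Agent.StGL.H3_Base
import Cfsg.Agent.StGL.H5_AltSum
import Cfsg.Agent.StGL.H6_ConstrSum

set_option autoImplicit false

/-! # S2425, Piece B1 (helper5): final statement, from `h5_alt_sum_of_constr` and Piece B0 (helper6). -/

namespace Cfsg.Agent.StGL

/-- Piece B1 of S2425: the alternating sum over the constrained permutations of the numbers of chains is
`(-1) ^ j` times the Moebius function. -/
theorem hB1_alt_sum {F : Type*} [Field F] {V : Type*} [AddCommGroup V] [Module F V] [Module.Finite F V]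
    [Finite (Submodule F V)] (T : Module.End F V) (m : Submodule F V → ℤ) (hm0 : m ⊥ = 1)
    (hstar : ∀ W ∈ Module.End.invtSubmodule T, W ≠ ⊥ → ∑ W' ∈ (Set.toFinite (h3_below T W)).toFinset, m W' = 0) :
    ∀ (j : ℕ) (W : Submodule F V), W ∈ Module.End.invtSubmodule T → Module.finrank F W = j →
      ∑ κ : Equiv.Perm (Fin j), (if h3_Constr κ then ((Equiv.Perm.sign κ : ℤˣ) : ℤ) *
          (Nat.card (h3_chains T (h3_comp κ) W) : ℤ) else 0) = (-1) ^ j * m W :=
  h5_alt_sum_of_constr T m hm0 hstar (fun j G => hB0_constr_sum j G)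

end Cfsg.Agent.StGL
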